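import Cfsg.Agent.Lib.POmegaBalance.OddCore
import Cfsg.Agent.Lib.Orth.Basic

/-!
# A group of isometries seen on a component

`W` is a space over `K` embedded in `ι → F`, stable under a group `G` of isometries, with `G` inducing
isometries of a form `B` and containing lifts of all its reflections.
-/

set_option autoImplicit false

namespace Cfsg.Agent.Lib.POmegaBalance

open QuadraticMap OddCore Module

universe u v w

variable {F : Type u} [Field F] {ι : Type} [Fintype ι] [DecidableEq ι] {Q : QuadraticForm F (ι → F)}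
  {K : Type v} [Field K] {W : Type w} [AddCommGroup W] [Module K W]

/-- `G` acts on the component `W` through the orthogonal group of `B`, onto all reflections -/
structure Comp (G : Subgroup ↥(Cfsg.isometryGroup F ⇑Q)) (B : LinearMap.BilinForm K W)
    (emb : W →+ (ι → F)) : Prop where
  form : SymmNondeg B
  inj : Function.Injective emb
  stable : ∀ o ∈ G, ∀ w, ∃ w', Orth.app o (emb w) = emb w'
  linear : ∀ o ∈ G, ∀ (c : K) w w', Orth.app o (emb w) = emb w' → Orth.app o (emb (c • w)) = emb (c • w')
  iso : ∀ o ∈ G, ∀ x y x' y', Orth.app o (emb x) = emb x' → Orth.app o (emb y) = emb y' → B x' y' = B x y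
  refl : ∀ v (hv : B v v ≠ 0), ∃ o ∈ G, (∀ w, Orth.app o (emb w) = emb (bRefl B v hv w)) ∧
    ∀ x, ∃ c : K, Orth.app o x = x + emb (c • v)

variable {G : Subgroup ↥(Cfsg.isometryGroup F ⇑Q)} {B : LinearMap.BilinForm K W} {emb : W →+ (ι → F)}

/-- odd order subgroups of `G` normalised by `G` act trivially on the component -/
theorem Comp.fixes [Finite K] [FiniteDimensional K W] (C : Comp G B emb) (h2 : (2 : K) ≠ 0)
    (hd : 3 ≤ finrank K W) (M : Subgroup ↥(Cfsg.isometryGroup F ⇑Q)) (hMG : M ≤ G)
    (hodd : Odd (Nat.card ↥M)) (hnorm : ∀ o ∈ G, ∀ m ∈ M, o * m * o⁻¹ ∈ M) :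
    ∀ m ∈ M, ∀ w, Orth.app m (emb w) = emb w := by
  classical
  choose f hf using fun (o : ↥G) w => C.stable o.1 o.2 w
  let L : ↥G → (W →ₗ[K] W) := fun o =>
    { toFun := f o
      map_add' := fun x y => C.inj (by rw [← hf, map_add emb, Orth.app_add, hf, hf, map_add emb])
      map_smul' := fun c x => C.inj ((hf o _).symm.trans (C.linear o.1 o.2 c x _ (hf o x))) }
  have hmul : ∀ a b w, L (a * b) w = L a (L b w) := fun a b w => C.inj (by
    show emb (f (a * b) w) = emb (f a (f b w))
    rw [← hf, ← hf, ← hf, Subgroup.coe_mul, Orth.app_mul])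
  have hone : ∀ w, L 1 w = w := fun w => C.inj (by
    show emb (f 1 w) = emb w
    rw [← hf, Subgroup.coe_one, Orth.app_one])
  let ρ : ↥G →* (W ≃ₗ[K] W) := MonoidHom.mk' (fun o => LinearEquiv.ofLinear (L o) (L o⁻¹)
      (LinearMap.ext fun w => by
        show L o (L o⁻¹ w) = w
        rw [← hmul, mul_inv_cancel, hone])
      (LinearMap.ext fun w => by
        show L o⁻¹ (L o w) = w
        rw [← hmul, inv_mul_cancel, hone])) fun a b => LinearEquiv.ext (hmul a b)
  have happ : ∀ (o : ↥G) w, Orth.app o.1 (emb w) = emb (ρ o w) := fun o w => hf o w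
  set M' := (M.subgroupOf G).map ρ
  obtain ⟨n, hn⟩ : ∃ n, finrank K W = n + 3 := ⟨finrank K W - 3, by omega⟩
  have hbot : M' = ⊥ := by
    refine eq_bot_of_normalized h2 n C.form hn M' ?_ ?_ ?_
    · refine hodd.of_dvd_nat ((Subgroup.card_map_dvd _ ρ).trans ?_)
      rw [Nat.card_congr (Subgroup.subgroupOfEquivOfLe hMG).toEquiv]
    · rintro _ ⟨o, -, rfl⟩ x y
      exact C.iso o.1 o.2 x y _ _ (happ o x) (happ o y)
    · rintro v hv _ ⟨o, ho, rfl⟩
      obtain ⟨r, hr, hrv, -⟩ := C.refl v hv
      have hρr : ρ ⟨r, hr⟩ = bRefl B v hv := LinearEquiv.ext fun w => C.inj (by rw [← happ, hrv])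
      refine ⟨⟨r, hr⟩ * o * (⟨r, hr⟩ : ↥G)⁻¹, ?_, ?_⟩
      · exact hnorm r hr o.1 ho
      · rw [map_mul, map_mul, map_inv, hρr, inv_eq_of_mul_eq_one_right (bRefl_mul_self v hv)]
  intro m hm w
  have h1 : ρ ⟨m, hMG hm⟩ = 1 := Subgroup.mem_bot.1 (hbot ▸ ⟨_, Subgroup.mem_subgroupOf.2 hm, rfl⟩)
  show Orth.app ((⟨m, hMG hm⟩ : ↥G) : ↥(Cfsg.isometryGroup F ⇑Q)) (emb w) = _
  rw [happ, h1]
  rfl

/-- a semilinear map commuting up to sign with all squares from `G` is scalar on the component -/
theorem Comp.scalar [Finite F] [Finite K] [FiniteDimensional K W] (C : Comp G B emb) (h2 : (2 : K) ≠ 0)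
    (h2V : ∀ x : ι → F, x + x = 0 → x = 0)
    (hd : 3 ≤ finrank K W) (hbig : Nat.card K ^ 4 < Nat.card (ι → F))
    (T : (ι → F) →+ (ι → F)) (hT : Function.Injective T) (τ : K →+* K)
    (hsemi : ∀ (c : K) x y, T (emb x) = emb y → T (emb (c • x)) = emb (τ c • y))
    (hcomm : ∀ o ∈ G, (∀ x, T (Orth.app (o * o) x) = Orth.app (o * o) (T x)) ∨
      (∀ x, T (Orth.app (o * o) x) = -Orth.app (o * o) (T x))) :
    (∀ c, τ c = c) ∧ ∃ l : K, ∀ x, T (emb x) = emb (l • x) := by
  classical
  haveI : Finite W := Module.finite_of_finite K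
  -- the image of a vector lies in each of its planes
  have hpl : ∀ v w, B v v ≠ 0 → B w w ≠ 0 → B v w ≠ 0 → w ∉ K ∙ v →
      ∃ a b : K, T (emb v) = emb (a • v + b • w) := by
    intro v w hv hw hvw hpar
    obtain ⟨ov, hov, hovW, hovV⟩ := C.refl v hv
    obtain ⟨ow, how, howW, howV⟩ := C.refl w hw
    set o := ov * ow with ho
    set d : (ι → F) → (ι → F) := fun x => Orth.app (o * o) x - x with hd'
    have hmem : ∀ x, ∃ a b : K, d x = emb (a • v + b • w) := by
      have h1 : ∀ x, ∃ a b : K, Orth.app o x = x + emb (a • v + b • w) := fun x => by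
        obtain ⟨b, hb⟩ := howV x
        obtain ⟨a, ha⟩ := hovV (Orth.app ow x)
        exact ⟨a, b, by rw [ho, Orth.app_mul, ha, hb, map_add, add_assoc, add_comm (emb (b • w))]⟩
      intro x
      obtain ⟨a, b, hab⟩ := h1 x
      obtain ⟨a', b', hab'⟩ := h1 (Orth.app o x)
      refine ⟨a + a', b + b', ?_⟩
      show Orth.app (o * o) x - x = _
      rw [Orth.app_mul]
      rw [hab', hab, add_smul, add_smul, map_add, map_add, map_add, map_add, map_add]
      abel
    -- `emb v` is a value of `d`
    set σ : W →ₗ[K] W := (bRefl B v hv : W →ₗ[K] W) ∘ₗ (bRefl B w hw : W →ₗ[K] W) with hσ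
    have hσapp : ∀ x, Orth.app o (emb x) = emb (σ x) := fun x => by
      rw [ho, Orth.app_mul, howW, hovW]; rfl
    obtain ⟨y, hy⟩ : ∃ y, σ y - y = v := by
      obtain ⟨z, hwz, hvz⟩ : ∃ z, B w z = 0 ∧ B v z ≠ 0 := by
        by_contra hall
        push Not at hall
        refine hpar ?_
        have h3 : v - (B v w / B w w) • w = 0 := by
          refine C.form.nondeg _ fun z => ?_
          obtain ⟨t, y, hy, rfl⟩ := decomp (B := B) w hw z
          simp only [map_sub, map_smul, LinearMap.sub_apply, LinearMap.smul_apply, map_add, smul_eq_mul,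
            hy, hall y hy]
          field_simp
          ring
        rw [sub_eq_zero] at h3
        exact Submodule.mem_span_singleton.2 ⟨(B v w / B w w)⁻¹,
          calc (B v w / B w w)⁻¹ • v = (B v w / B w w)⁻¹ • ((B v w / B w w) • w) := congrArg _ h3
            _ = w := by rw [smul_smul, inv_mul_cancel₀ (div_ne_zero hvw hw), one_smul]⟩
      refine ⟨(-(B v v) / (2 * B v z)) • z, ?_⟩
      have e1 : bRefl B w hw ((-(B v v) / (2 * B v z)) • z) = (-(B v v) / (2 * B v z)) • z :=
        bRefl_of_orth w hw (by rw [map_smul, hwz, smul_zero])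
      rw [hσ, LinearMap.comp_apply]
      show bRefl B v hv (bRefl B w hw _) - _ = v
      rw [e1, bRefl_apply, map_smul, smul_eq_mul, sub_sub_cancel_left, ← neg_smul,
        show -(2 / B v v * (-(B v v) / (2 * B v z) * B v z)) = 1 by field_simp, one_smul]
    obtain ⟨x, hx⟩ : ∃ x, σ x + x = y := by
      refine (Finite.injective_iff_surjective (f := fun x => σ x + x)).1 ?_ y
      intro a b hab
      have h3 : σ (a - b) + (a - b) = 0 := by
        rw [map_sub, sub_add_sub_comm]; exact sub_eq_zero.2 hab
      refine sub_eq_zero.1 ?_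
      set z := a - b with hz
      clear_value z
      rw [hσ, LinearMap.comp_apply] at h3
      change bRefl B v hv (bRefl B w hw z) + z = 0 at h3
      rw [bRefl_apply w hw, bRefl_apply v hv, map_sub, map_smul, smul_eq_mul] at h3
      set kb := 2 / B w w * B w z with hkb
      set ka := 2 / B v v * (B v z - kb * B v w) with hka
      have h4 : (2 : K) • z = ka • v + kb • w := by linear_combination (norm := module) h3
      have e1 : 2 * B v z = ka * B v v + kb * B v w := by
        have := congrArg (B v) h4
        simpa [smul_eq_mul] using this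
      have e2 : 2 * B w z = ka * B v w + kb * B w w := by
        have := congrArg (B w) h4
        simpa [smul_eq_mul, C.form.symm w v] using this
      have e3 : kb * B w w = 2 * B w z := by rw [hkb]; field_simp
      have hka0 : ka = 0 := by
        have e4 : ka * B v w = 0 := by linear_combination -e2 - e3
        exact (mul_eq_zero.1 e4).resolve_right hvw
      have hkb0 : kb = 0 := by
        have e5 : ka * B v v = 2 * (B v z - kb * B v w) := by rw [hka]; field_simp
        have e6 : kb * B v w = 0 := by
          rw [hka0] at e1 e5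
          linear_combination e5 + e1
        exact (mul_eq_zero.1 e6).resolve_right hvw
      rw [hka0, hkb0, zero_smul, zero_smul, add_zero] at h4
      exact (smul_eq_zero.1 h4).resolve_left h2
    have hdx : d (emb x) = emb v := by
      rw [hd']
      show Orth.app (o * o) (emb x) - emb x = emb v
      rw [Orth.app_mul, hσapp, hσapp, ← map_sub]
      congr 1
      rw [← hy, ← hx, map_add]
      abel
    -- `T` commutes exactly with the square
    have hplus : ∀ x, T (Orth.app (o * o) x) = Orth.app (o * o) (T x) := by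
      refine (hcomm o (G.mul_mem hov how)).resolve_right fun hneg => ?_
      haveI : Fintype (ι → F) := Fintype.ofFinite _
      let D : (ι → F) →+ (ι → F) := AddMonoidHom.mk' d fun a b => by
        show Orth.app (o * o) (a + b) - (a + b) = Orth.app (o * o) a - a + (Orth.app (o * o) b - b)
        rw [Orth.app_add]; abel
      set P := Set.range (fun ab : K × K => emb (ab.1 • v + ab.2 • w)) with hP
      have hP2 : Nat.card ↥P ≤ Nat.card K ^ 2 :=
        (Finite.card_range_le _).trans (by rw [Nat.card_prod, pow_two])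
      have hrange : Nat.card ↥D.range ≤ Nat.card K ^ 2 := by
        refine le_trans (Nat.card_mono (Set.toFinite P) ?_) hP2
        rintro _ ⟨x, rfl⟩
        obtain ⟨a, b, hab⟩ := hmem x
        exact ⟨(a, b), hab.symm⟩
      have hker : Nat.card ↥D.ker ≤ Nat.card K ^ 2 := by
        have hcard : Nat.card ↥D.ker = Nat.card ↥(T '' (D.ker : Set (ι → F))) :=
          (Nat.card_image_of_injective hT _).symm
        rw [hcard]
        refine le_trans (Nat.card_mono (Set.toFinite P) ?_) hP2
        rintro _ ⟨x, hx, rfl⟩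
        have h5 : Orth.app (o * o) x = x := sub_eq_zero.1 hx
        have h6 := hneg x
        rw [h5] at h6
        obtain ⟨a, b, hab⟩ := hmem (T x)
        refine ⟨((-(1 / 2) : K) * a, (-(1 / 2) : K) * b), ?_⟩
        show emb _ = T x
        rw [mul_smul, mul_smul, ← smul_add]
        set p := a • v + b • w
        have h7 : emb p = -(T x + T x) := by
          rw [← hab, hd']
          show Orth.app (o * o) (T x) - T x = _
          rw [show Orth.app (o * o) (T x) = -T x from (neg_eq_iff_eq_neg.2 h6).symm]
          abel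
        set q := (-(1 / 2) : K) • p
        have h8 : emb q + emb q = T x + T x := by
          rw [← map_add, show q + q = -p by
            rw [← two_smul K q, smul_smul, show (2 : K) * -(1 / 2) = -1 by field_simp, neg_one_smul],
            map_neg, h7, neg_neg]
        exact sub_eq_zero.1 (h2V _ (by rw [sub_add_sub_comm, h8, sub_self]))
      have htot : Nat.card ↥D.ker * Nat.card ↥D.range = Nat.card (ι → F) := by
        rw [← AddSubgroup.index_ker, AddSubgroup.card_mul_index]
      have := Nat.mul_le_mul hker hrange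
      rw [htot, ← pow_add] at this
      exact absurd this (not_le.2 hbig)
    obtain ⟨a, b, hab⟩ := hmem (T (emb x))
    refine ⟨a, b, ?_⟩
    rw [← hdx, hd']
    show T (Orth.app (o * o) (emb x) - emb x) = _
    rw [map_sub, hplus]
    exact hab
  -- the induced map on the component
  have hex : ∀ x, ∃ y, T (emb x) = emb y := by
    haveI : Nontrivial W := Module.nontrivial_of_finrank_pos (R := K) (by omega)
    have hani : ∀ v, B v v ≠ 0 → ∃ y, T (emb v) = emb y := by
      intro v hv
      have hdv := finrank_perp (B := B) v hv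
      obtain ⟨z, hz⟩ := exists_value h2 (symmNondeg_perp C.form v hv) (by omega) (B v v) hv
      rw [perpForm_apply] at hz
      have hvz : B v (z : W) = 0 := mem_perp.1 z.2
      have hne : (z : W) ≠ 0 := fun h0 => hv (by rw [← hz, h0]; simp)
      have hvw : B v (v + (z : W)) = B v v := by rw [map_add, hvz, add_zero]
      have hww : B (v + (z : W)) (v + (z : W)) = 2 * B v v := by
        simp only [map_add, LinearMap.add_apply, hvz, C.form.symm (z : W) v, hz]
        ring
      obtain ⟨a, b, hab⟩ := hpl v (v + (z : W)) hv (hww ▸ mul_ne_zero h2 hv) (hvw ▸ hv) fun hmem => by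
        obtain ⟨t, ht⟩ := Submodule.mem_span_singleton.1 hmem
        have h5 := congrArg (B v) ht
        rw [map_smul, hvw, smul_eq_mul] at h5
        have ht1 : t = 1 := mul_right_cancel₀ hv (by rw [h5, one_mul])
        rw [ht1, one_smul, left_eq_add] at ht
        exact hne ht
      exact ⟨_, hab⟩
    intro x
    obtain ⟨v, hv⟩ := exists_aniso h2 C.form (exists_ne 0)
    obtain ⟨yv, hyv⟩ := hani v hv
    by_cases hx : B x x = 0
    · by_cases hxv : B (x + v) (x + v) = 0
      · have hxv' : B (x - v) (x - v) ≠ 0 := by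
          intro h0
          simp only [map_add, map_sub, LinearMap.add_apply, LinearMap.sub_apply, hx, C.form.symm v x] at hxv h0
          exact mul_ne_zero h2 hv (by linear_combination hxv + h0)
        obtain ⟨y, hy⟩ := hani _ hxv'
        refine ⟨y + yv, ?_⟩
        rw [map_add emb, ← hy, ← hyv, ← map_add T, ← map_add emb, sub_add_cancel]
      · obtain ⟨y, hy⟩ := hani _ hxv
        refine ⟨y - yv, ?_⟩
        rw [map_sub emb, ← hy, ← hyv, ← map_sub T, ← map_sub emb, add_sub_cancel_right]
    · exact hani x hx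
  choose g hg using hex
  let T' : W →+ W := AddMonoidHom.mk' g fun a b => C.inj (by rw [← hg, map_add, map_add, hg, hg, map_add])
  have hT' : Function.Injective T' := fun a b hab => C.inj (hT (by rw [hg, hg]; exact congrArg emb hab))
  obtain ⟨hτ, l, hl⟩ := eq_smul_of_planes h2 C.form hd T' hT' τ
    (fun c x => C.inj ((hg _).symm.trans (hsemi c x _ (hg x)))) fun v w hv hw hvw hpar => by
      obtain ⟨a, b, hab⟩ := hpl v w hv hw hvw hpar
      rw [show T' v = a • v + b • w from C.inj ((hg v).symm.trans hab)]
      exact Submodule.mem_span_pair.2 ⟨a, b, rfl⟩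
  exact ⟨hτ, l, fun x => by rw [hg, show g x = l • x from hl x]⟩

end Cfsg.Agent.Lib.POmegaBalance
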