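import Cfsg.Agent.Lib.POmegaBalance.Split
import Cfsg.Agent.Lib.POmegaField.Classes
import Cfsg.Agent.Lib.LocalBalance.Criterion
import Cfsg.Agent.Lib.PSolvable.Core

/-!
# Local balance at graph involutions of even-dimensional orthogonal groups, odd characteristic
-/

set_option autoImplicit false

namespace Cfsg.Agent.Lib.POmegaBalance

open QuadraticMap Matrix POmegaDiag

universe u

variable {F : Type u} [Field F] [Fintype F] {ι : Type} [Fintype ι] [DecidableEq ι]
  {Q : QuadraticForm F (ι → F)} {n : ℕ}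

theorem conj_injective_of_setting (S : POmegaAut.Setting Q) :
    Function.Injective (MulAut.conj : Cfsg.POmega F ⇑Q →* MulAut (Cfsg.POmega F ⇑Q)) := by
  rw [injective_iff_map_eq_one]
  intro z hz
  obtain ⟨s, rfl⟩ := POmegaAut.proj_surjective ⇑Q z
  rw [POmegaField.conj_proj_eq] at hz
  obtain ⟨c, hc⟩ := (POmegaField.simAut_eq_one_iff S _).1 hz
  have hv : ∀ v, POmegaAut.av s v = (c : F) • v := fun v => by
    rw [← POmegaAut.SPair.scalarSim_apply (Q := Q) c v, ← hc]
    rfl
  have hs : s ∈ Subgroup.center ↥(Cfsg.Omega F ⇑Q) := Subgroup.mem_center_iff.2 fun t =>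
    Subtype.ext (Orth.isometry_ext fun v => by
      rw [Subgroup.coe_mul, Subgroup.coe_mul, Orth.app_mul, Orth.app_mul]
      show Orth.app t.1 (POmegaAut.av s v) = POmegaAut.av s (Orth.app t.1 v)
      rw [hv, hv, Orth.app_smul])
  exact (QuotientGroup.eq_one_iff s).2 hs

theorem omega_apply_center (E : EvenForm Q n) {z : ↥(Cfsg.Omega F ⇑Q)} (hz : z ∈ Subgroup.center _)
    (S : POmegaAut.Setting Q) : ∀ v, Orth.app z.1 v = v ∨ ∀ v, Orth.app z.1 v = -v := by
  obtain ⟨c, hc⟩ := S.center_scalar z hz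
  have hc' : ∀ v, Orth.app z.1 v = c • v := hc
  obtain ⟨w, hw⟩ := E.exists_ne
  have h2 : c * c = 1 := mul_right_cancel₀ hw (by
    have := Orth.Q_app z.1 w
    rw [hc', QuadraticMap.map_smul, smul_eq_mul] at this
    rw [this, one_mul])
  intro v
  rcases mul_self_eq_one_iff.1 h2 with rfl | rfl
  · exact Or.inl (by rw [hc', one_smul])
  · exact Or.inr fun u => by rw [hc', neg_one_smul]

/-- no odd normal subgroup in the fixed points, and none centralising them -/
theorem core_eq_bot_graph (E : EvenForm Q n) (S : POmegaAut.Setting Q) (hn : 4 ≤ n)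
    (A : Subgroup (MulAut (Cfsg.POmega F ⇑Q))) (hinn : ∀ k, MulAut.conj k ∈ A) (g : Sim Q)
    (hg : E.proper g = -1) (hx2 : orderOf (simAut g) = 2) :
    Cfsg.pPrimeCore 2 ↥(A ⊓ Subgroup.centralizer {simAut g}) = ⊥ := by
  classical
  haveI : Finite (MulAut (Cfsg.POmega F ⇑Q)) :=
    Finite.of_injective (fun e => (e : Cfsg.POmega F ⇑Q → Cfsg.POmega F ⇑Q)) DFunLike.coe_injective
  set x := simAut g with hxdef
  have hxx : x * x = 1 := by rw [← pow_two, ← hx2]; exact pow_orderOf_eq_one x
  obtain ⟨l, hl⟩ := E.exists_scal_of_simAut (g := g * g) (by rw [map_mul, hxx])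
  have hg2 := E.sq_eq hg hl
  have hD := graphData E hn hg hg2
  set pr := POmegaAut.proj ⇑Q with hpr
  set pg := POmegaAut.SPair.ofSim (g : GL ι F) g.2 with hpg
  have hxproj : ∀ s, x (pr s) = pr (pg.omegaAut s) := fun s => rfl
  -- fixed points from commuting isometries
  have hfixmem : ∀ s : ↥(Cfsg.Omega F ⇑Q), s.1 ∈ fixG g → x (pr s) = pr s := fun s hs => by
    rw [hxproj]
    refine congrArg pr (POmegaAut.av_ext fun v => ?_)
    obtain ⟨w, rfl⟩ : ∃ w, pg.map w = v := ⟨_, pg.map_invMap v⟩
    rw [pg.av_omegaAut]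
    exact hs w
  set CK := MonoidHom.eqLocus x.toMonoidHom (MonoidHom.id (Cfsg.POmega F ⇑Q)) with hCK
  have hinj := conj_injective_of_setting S
  refine LocalBalance.core_eq_bot_of_subgroup hinj A hinn x CK (fun k hk => hk)
    (fun k hk l hl => CK.mul_mem (CK.mul_mem hk hl) (CK.inv_mem hk)) ?_ ?_
  · -- no odd normal subgroup
    intro M hM hco
    suffices hcore : Cfsg.pPrimeCore 2 ↥CK = ⊥ from
      (Cfsg.Agent.Lib.PSolvable.pPrimeCore_eq_bot_iff.1 hcore) M hM hco
    set C := Cfsg.pPrimeCore 2 ↥CK with hC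
    set C' := C.map CK.subtype with hC'
    set N := Nat.card ↥C' with hN
    have hNodd : Odd N := by
      rw [hN, hC', Subgroup.card_map_of_injective CK.subtype_injective]
      exact Nat.coprime_two_right.1 Cfsg.Agent.Lib.PSolvable.pPrimeCore_coprime
    set P : Subgroup ↥(Cfsg.Omega F ⇑Q) := C'.comap pr with hP
    let π : ↥P →* ↥C' := pr.subgroupComap C'
    have hπ : Function.Surjective π := by
      rintro ⟨c, hc⟩
      obtain ⟨t, rfl⟩ := POmegaAut.proj_surjective ⇑Q c
      exact ⟨⟨t, hc⟩, rfl⟩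
    have hker : ∀ t : ↥P, t ∈ π.ker ↔ t.1 ∈ Subgroup.center ↥(Cfsg.Omega F ⇑Q) := fun t => by
      rw [MonoidHom.mem_ker]
      refine ⟨fun h => (QuotientGroup.eq_one_iff _).1 (congrArg Subtype.val h), fun h => ?_⟩
      exact Subtype.ext ((QuotientGroup.eq_one_iff _).2 h)
    have hidx : π.ker.index = N := by
      rw [Subgroup.index_ker, MonoidHom.range_eq_top.2 hπ, Subgroup.card_top]
    have h2pow : ∀ t : ↥π.ker, t ^ 2 = 1 := fun t => Subtype.ext (Subtype.ext (by
      have := E.center_sq ((hker t.1).1 t.2)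
      rw [pow_two]
      exact this))
    have hcop : Nat.Coprime (Nat.card ↥π.ker) π.ker.index := by
      have hpg2 : IsPGroup 2 ↥π.ker := fun t => ⟨1, by rw [pow_one]; exact h2pow t⟩
      obtain ⟨k, hk⟩ := IsPGroup.iff_card.1 hpg2
      rw [hk, hidx]
      exact Nat.Coprime.pow_left _ (Nat.coprime_two_left.2 hNodd)
    obtain ⟨H, hH⟩ := Subgroup.exists_right_complement'_of_coprime hcop
    have hHcard : Nat.card ↥H = N := by rw [← hidx, hH.symm.index_eq_card]
    have hHmem : ∀ t : ↥P, t ∈ H ↔ t ^ N = 1 := by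
      intro t
      constructor
      · intro ht
        rw [← hHcard]
        exact congrArg Subtype.val (pow_card_eq_one' (x := (⟨t, ht⟩ : ↥H)))
      · intro ht
        obtain ⟨⟨⟨z, hz⟩, ⟨h, hh⟩⟩, rfl⟩ := hH.2 t
        have hcomm : Commute z h := Subtype.ext (Subgroup.mem_center_iff.1 ((hker z).1 hz) h.1).symm
        have hh1 : h ^ N = 1 := by
          rw [← hHcard]; exact congrArg Subtype.val (pow_card_eq_one' (x := (⟨h, hh⟩ : ↥H)))
        simp only at ht
        rw [hcomm.mul_pow, hh1, mul_one] at ht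
        obtain ⟨k, hk⟩ := hNodd
        rw [hk, pow_succ, pow_mul, show z ^ 2 = 1 from congrArg Subtype.val (h2pow ⟨z, hz⟩), one_pow,
          one_mul] at ht
        show z * h ∈ H
        rw [ht, one_mul]
        exact hh
    set Ms : Subgroup ↥(Cfsg.isometryGroup F ⇑Q) :=
      H.map ((Cfsg.Omega F ⇑Q).subtype.comp P.subtype) with hMs
    have hMsfix : Ms ≤ fixG g := by
      rintro _ ⟨t, ht, rfl⟩
      have hfix : x (pr t.1) = pr t.1 := by
        obtain ⟨⟨c, hc'⟩, -, hce⟩ := t.2
        rw [← show c = pr t.1 from hce]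
        exact hc'
      rw [hxproj] at hfix
      have hz := POmegaAut.proj_eq_iff.1 hfix.symm
      set z := (t.1)⁻¹ * pg.omegaAut t.1 with hzdef
      have hzc : Commute t.1 z := Subgroup.mem_center_iff.1 hz t.1
      have htN : t.1 ^ N = 1 := congrArg Subtype.val ((hHmem t).1 ht)
      have hz1 : z = 1 := by
        have h3 : (t.1 * z) ^ N = 1 := by
          rw [hzdef, mul_inv_cancel_left, ← map_pow, htN, map_one]
        rw [hzc.mul_pow, htN, one_mul] at h3
        obtain ⟨k, hk⟩ := hNodd
        rw [hk, pow_succ, pow_mul, pow_two, E.center_sq hz, one_pow, one_mul] at h3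
        exact h3
      rw [hzdef, inv_mul_eq_one] at hz1
      intro v
      have h5 := pg.av_omegaAut t.1 v
      rw [← hz1] at h5
      exact h5.symm
    have hMsodd : Odd (Nat.card ↥Ms) := by
      rw [hMs, Subgroup.card_map_of_injective (f := (Cfsg.Omega F ⇑Q).subtype.comp P.subtype)
        (Subtype.val_injective.comp Subtype.val_injective), hHcard]
      exact hNodd
    have hMsnorm : ∀ o ∈ fixG g, ∀ m ∈ Ms, o * m * o⁻¹ ∈ Ms := by
      rintro o ho _ ⟨t, ht, rfl⟩
      set so := simAut (ofIso o) with hso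
      have hcx : so * x = x * so := by
        rw [hso, hxdef, ← map_mul, ← map_mul]
        refine congrArg _ (sim_ext fun v => ?_)
        rw [sv_mul, sv_mul]
        exact (ho v).symm
      have hpres : ∀ k ∈ CK, so k ∈ CK := fun k hk => by
        show x (so k) = so k
        calc x (so k) = (x * so) k := rfl
          _ = (so * x) k := by rw [hcx]
          _ = _ := congrArg so hk
      have hpres' : ∀ k ∈ CK, so⁻¹ k ∈ CK := fun k hk => by
        show x (so⁻¹ k) = so⁻¹ k
        apply so.injective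
        calc so (x (so⁻¹ k)) = (so * x) (so⁻¹ k) := rfl
          _ = x (so (so⁻¹ k)) := by rw [hcx]; rfl
          _ = _ := by rw [show so (so⁻¹ k) = k from so.apply_symm_apply k]; exact hk
      let e : ↥CK ≃* ↥CK :=
        { toFun := fun k => ⟨so k.1, hpres _ k.2⟩
          invFun := fun k => ⟨so⁻¹ k.1, hpres' _ k.2⟩
          left_inv := fun k => Subtype.ext (so.symm_apply_apply _)
          right_inv := fun k => Subtype.ext (so.apply_symm_apply _)
          map_mul' := fun a b => Subtype.ext (map_mul so _ _) }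
      have hmem : so (pr t.1) ∈ C' := by
        obtain ⟨c, hc, hce⟩ := t.2
        refine ⟨e c, ?_, by rw [← hce]; rfl⟩
        have h1 : e c ∈ C.map e.toMonoidHom := ⟨c, hc, rfl⟩
        rwa [Cfsg.Agent.Lib.PSolvable.map_pPrimeCore_equiv] at h1
      set s := (POmegaAut.SPair.ofSim ((ofIso o : Sim Q) : GL ι F) (ofIso o : Sim Q).2).omegaAut t.1 with hs
      have hsP : s ∈ P := hmem
      refine ⟨⟨s, hsP⟩, (hHmem _).2 (Subtype.ext ?_), ?_⟩
      · show s ^ N = 1
        rw [hs, ← map_pow, show t.1 ^ N = 1 from congrArg Subtype.val ((hHmem t).1 ht), map_one]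
      · show s.1 = o * t.1.1 * o⁻¹
        refine Orth.isometry_ext fun v => ?_
        obtain ⟨w, rfl⟩ : ∃ w, Orth.app o w = v := ⟨_, Orth.app_app_inv o v⟩
        rw [Orth.app_mul, Orth.app_mul, Orth.app_inv_app]
        exact POmegaAut.SPair.av_omegaAut _ t.1 w
    have hMs0 := hD.no_odd Ms hMsfix hMsodd hMsnorm
    refine (Subgroup.eq_bot_iff_forall _).2 fun c hc => ?_
    obtain ⟨t, ht⟩ := POmegaAut.proj_surjective ⇑Q c.1
    have htP : t ∈ P := ⟨c, hc, ht.symm⟩
    obtain ⟨⟨⟨z, hz⟩, ⟨h, hh⟩⟩, hzh⟩ := hH.2 ⟨t, htP⟩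
    have hh1 : h = 1 := by
      have : ((Cfsg.Omega F ⇑Q).subtype.comp P.subtype) h ∈ Ms := ⟨h, hh, rfl⟩
      rw [hMs0, Subgroup.mem_bot] at this
      exact Subtype.ext (Subtype.ext this)
    simp only [hh1, mul_one] at hzh
    refine Subtype.ext ?_
    rw [← ht]
    refine (QuotientGroup.eq_one_iff t).2 ?_
    rw [show t = z.1 from (congrArg Subtype.val hzh).symm]
    exact (hker z).1 hz
  · -- nothing of odd order centralises the fixed points
    intro a hax hco hfix
    obtain ⟨p, rfl⟩ := S.exists_induced a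
    let T : (ι → F) →+ (ι → F) := p.map.toAddMonoidHom
    have hTapp : ∀ v, T v = p.map v := fun v => rfl
    have hmapg : ∀ v, pg.map v = sv g v := fun v => rfl
    -- commutation with `g`
    obtain ⟨κ, hκ⟩ : ∃ κ : F, ∀ v, T (sv g v) = κ • sv g (T v) := by
      have h1 : ((pg * p)⁻¹ * (p * pg)).aut = 1 := by
        show POmegaAut.SPair.autHom _ = 1
        rw [map_mul, map_inv, map_mul, map_mul, inv_mul_eq_one]
        exact hax.symm
      obtain ⟨c, hc⟩ := (POmegaAut.SPair.aut_eq_one_iff S _).1 h1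
      rw [inv_mul_eq_iff_eq_mul] at hc
      refine ⟨p.sig (c : F), fun v => ?_⟩
      rw [hTapp, hTapp, ← hmapg, ← POmegaAut.SPair.mul_map, hc, POmegaAut.SPair.mul_map,
        POmegaAut.SPair.mul_map,
        show (POmegaAut.SPair.simHom (POmegaAut.SPair.scalarSim (Q := Q) c)).map v = (c : F) • v from
          POmegaAut.SPair.scalarSim_apply (Q := Q) c v,
        LinearMap.map_smulₛₗ, hmapg, sv_smul]
      rfl
    have hcomm : ∀ o ∈ fixG g, (∀ v, T (Orth.app (o * o) v) = Orth.app (o * o) (T v)) ∨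
        (∀ v, T (Orth.app (o * o) v) = -Orth.app (o * o) (T v)) := by
      intro o ho
      have hmem : o * o ∈ Cfsg.Omega F ⇑Q := (E.mem_omega _).2
        ⟨by rw [map_mul, Int.units_mul_self], by rw [map_mul, Int.units_mul_self]⟩
      set s : ↥(Cfsg.Omega F ⇑Q) := ⟨_, hmem⟩
      have h1 : p.aut (pr s) = pr s := hfix _ (hfixmem s ((fixG g).mul_mem ho ho))
      rw [hpr, POmegaAut.SPair.aut_proj] at h1
      have hz := POmegaAut.proj_eq_iff.1 h1.symm
      set z := s⁻¹ * p.omegaAut s with hzdef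
      have hps : p.omegaAut s = s * z := by rw [hzdef, mul_inv_cancel_left]
      have happ : ∀ v, T (Orth.app (o * o) v) = Orth.app (o * o) (Orth.app z.1 (T v)) := fun v => by
        have h2 := p.av_omegaAut s v
        rw [hps] at h2
        rw [← Orth.app_mul]
        exact h2.symm
      by_cases hid : ∀ v, Orth.app z.1 v = v
      · exact Or.inl fun v => by rw [happ, hid]
      · push Not at hid
        obtain ⟨v₀, hv₀⟩ := hid
        have hneg := (omega_apply_center E hz S v₀).resolve_left hv₀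
        exact Or.inr fun v => by rw [happ, hneg, Orth.app_neg]
    obtain ⟨hσ, hT⟩ := hD.scalar T p.sig κ (p.mult : F) p.map_injective
      (fun c v => LinearMap.map_smulₛₗ p.map c v) (fun v => p.map_form v) hκ hcomm
    have hmapp : ∀ v, p.map v = (p.g : Matrix ι ι F) *ᵥ v := fun v => by
      rw [POmegaAut.SPair.map_apply, show (fun i => p.sig (v i)) = v from funext fun i => by rw [hσ]; rfl]
    obtain ⟨w, hw⟩ := E.exists_ne
    rcases hT with ⟨k, hk⟩ | ⟨k, hk⟩
    · have hk0 : k ≠ 0 := fun h0 => hw (by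
        rw [p.map_injective (((hk w).trans (by rw [h0, zero_smul])).trans (map_zero p.map).symm),
          QuadraticMap.map_zero])
      refine (POmegaAut.SPair.aut_eq_one_iff S p).2 ⟨Units.mk0 k hk0, POmegaAut.SPair.ext
        (Units.ext (Matrix.ext_iff_mulVec.mpr fun v => ?_)) hσ⟩
      rw [← hmapp]
      exact (hk v).trans (POmegaAut.SPair.scalarSim_apply (Q := Q) (Units.mk0 k hk0) v).symm
    · exfalso
      have hk0 : k ≠ 0 := fun h0 => hw (by
        rw [p.map_injective (((hk w).trans (by rw [h0, zero_smul])).trans (map_zero p.map).symm),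
          QuadraticMap.map_zero])
      have hp : p = POmegaAut.SPair.ofSim ((scal (Units.mk0 k hk0) * g : Sim Q) : GL ι F)
          (scal (Units.mk0 k hk0) * g : Sim Q).2 :=
        POmegaAut.SPair.ext (Units.ext (Matrix.ext_iff_mulVec.mpr fun v => by
          rw [← hmapp]
          refine (hk v).trans ?_
          show k • sv g v = sv (scal (Units.mk0 k hk0) * g) v
          rw [sv_mul, E.sv_scal]
          rfl)) hσ
      have hax' : p.aut = x := by
        rw [hp]
        show simAut (scal (Units.mk0 k hk0) * g) = x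
        rw [map_mul, E.simAut_scal, one_mul]
      rw [hax', hx2] at hco
      exact absurd hco (by decide)

end Cfsg.Agent.Lib.POmegaBalance
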