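import Cfsg.Agent.Lib.POmegaBalance.Rational
import Cfsg.Agent.Lib.POmegaBalance.Graph
import Cfsg.Agent.Lib.Forms.Parity
import Cfsg.Agent.Lib.Dickson.Invariant

/-!
# The criterion at a field automorphism of odd prime order, any characteristic
-/

set_option autoImplicit false

namespace Cfsg.Agent.Lib.POmegaBalance

open QuadraticMap Matrix FieldDescent POmegaAut POmegaField

universe u v

variable {F : Type u} [Field F] [Fintype F] {ι : Type} [Fintype ι] [DecidableEq ι]
  {Q : QuadraticForm F (ι → F)} {F₀ : Type v} [Field F₀] {Q₀ : QuadraticForm F₀ (ι → F₀)} {j : F₀ →+* F}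

/-- squares of isometries lie in `Ω` -/
theorem sq_mem_omega (hn : (QuadraticMap.polarBilin Q).Nondegenerate) (hcard : 5 ≤ Fintype.card ι)
    (o : ↥(Cfsg.isometryGroup F ⇑Q)) : o * o ∈ Cfsg.Omega F ⇑Q := by
  by_cases h2 : (2 : F) = 0
  · haveI : CharP F 2 := Dickson.charP_two_of_two_eq_zero h2
    exact Subgroup.mul_self_mem_of_index_two
      (Forms.index_Omega_char_two hn (Or.inr (by omega)) (by omega)) o
  · exact (Orth.mem_omega_iff h2 hn (by omega) _).2
      ⟨by rw [map_mul, Int.units_mul_self], by rw [map_mul, Int.units_mul_self]⟩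

omit [Fintype F] in
theorem av_omegaLift_vec (hQ : IsRestriction j Q Q₀) (s : ↥(Cfsg.Omega F₀ ⇑Q₀)) (x : ι → F₀) :
    av (omegaLift hQ s) (fun i => j (x i)) = fun i => j (av s x i) :=
  map_j_vec j _ x

omit [Fintype F] in
/-- lifts of Eichler elements -/
theorem av_omegaLift_eich (hQ : IsRestriction j Q Q₀) {s : ↥(Cfsg.Omega F₀ ⇑Q₀)} {u w : ι → F₀}
    (hs : ∀ x, av s x = eich Q₀ u w x) (x : ι → F) :
    av (omegaLift hQ s) x = eich Q (fun i => j (u i)) (fun i => j (w i)) x := by
  have hpol : ∀ a b : ι → F₀, polar Q (fun i => j (a i)) (fun i => j (b i)) = j (polar Q₀ a b) := fun a b => by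
    simp only [polar]
    rw [show (fun i => j (a i)) + (fun i => j (b i)) = fun i => j ((a + b) i) from
      funext fun i => (map_add j _ _).symm, hQ, hQ, hQ, map_sub, map_sub]
  have hlin : (((omegaLift hQ s : ↥(Cfsg.Omega F ⇑Q)) : ↥(Cfsg.isometryGroup F ⇑Q)).1 : Matrix ι ι F).mulVecLin
      = eich Q (fun i => j (u i)) (fun i => j (w i)) := by
    refine (Pi.basisFun F ι).ext fun k => ?_
    have hk : (Pi.single k (1 : F) : ι → F) = fun i => j ((Pi.single k (1 : F₀) : ι → F₀) i) := by
      funext i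
      simp [Pi.single_apply, apply_ite j]
    rw [Pi.basisFun_apply, hk]
    show av (omegaLift hQ s) _ = _
    rw [av_omegaLift_vec, hs, eich_apply, eich_apply, hpol, hpol, hQ w]
    funext i
    simp [map_sub, map_add, map_mul]
  exact LinearMap.congr_fun hlin x

/-- an automorphism fixing the group over the fixed field of `σ` is killed by `|σ|` -/
theorem pow_eq_one_of_fix_rational [Finite F₀] (S : Setting Q) (S₀ : Setting Q₀) {σ : F ≃+* F}
    (hj : IsFixedField σ j) (hQ : IsRestriction j Q Q₀) (a : MulAut (Cfsg.POmega F ⇑Q))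
    (hfix : ∀ s : ↥(Cfsg.Omega F₀ ⇑Q₀), a (POmegaAut.proj ⇑Q (omegaLift hQ s)) = POmegaAut.proj ⇑Q (omegaLift hQ s)) :
    a ^ orderOf σ = 1 := by
  classical
  obtain ⟨p, rfl⟩ := S.exists_induced a
  let J : (ι → F₀) → (ι → F) := fun x i => j (x i)
  have hJadd : ∀ x y, J (x + y) = J x + J y := fun x y => funext fun i => map_add j _ _
  have hJsmul : ∀ (c : F₀) x, J (c • x) = j c • J x := fun c x => funext fun i => map_mul j _ _
  have hJ0 : ∀ x, x ≠ 0 → J x ≠ 0 := fun x hx h0 =>
    hx (funext fun i => j.injective ((congrFun h0 i).trans (map_zero j).symm))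
  have hJQ : ∀ x, Q (J x) = j (Q₀ x) := hQ
  have hJp : ∀ x y, polar Q (J x) (J y) = j (polar Q₀ x y) := fun x y => by
    simp only [polar, ← hJadd, hJQ, map_sub]
  set T := p.map
  -- exact commutation with Eichler elements over the subfield
  have hT : ∀ u w, Q₀ u = 0 → polar Q₀ u w = 0 → u ≠ 0 → ∀ x,
      T (eich Q (J u) (J w) x) = eich Q (J u) (J w) (T x) := by
    intro u w hu huw hu0
    obtain ⟨s, hs⟩ := S₀.omega u w hu huw
    set s' := omegaLift hQ s
    have hs' : ∀ x, av s' x = eich Q (J u) (J w) x := av_omegaLift_eich hQ hs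
    have h1 := hfix s
    rw [SPair.aut_proj] at h1
    have hz := proj_eq_iff.1 h1.symm
    obtain ⟨c, hc⟩ := S.center_scalar _ hz
    have hps : p.omegaAut s' = s' * (s'⁻¹ * p.omegaAut s') := (mul_inv_cancel_left _ _).symm
    have hrel : ∀ x, T (eich Q (J u) (J w) x) = c • eich Q (J u) (J w) (T x) := fun x => by
      have h2 := p.av_omegaAut s' x
      rw [hps] at h2
      rw [← hs', ← hs', ← h2]
      show Orth.app (s' * _ : ↥(Cfsg.Omega F ⇑Q)).1 (T x) = _
      rw [Subgroup.coe_mul, Orth.app_mul]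
      show Orth.app s'.1 (av _ (T x)) = _
      rw [hc, Orth.app_smul]
      rfl
    have hfx : eich Q (J u) (J w) (J u) = J u :=
      eich_fix (by rw [hJp, polar_self, hu]; simp) (by rw [hJp, huw, map_zero])
    have h3 := hrel (J u)
    rw [hfx] at h3
    have hy0 : T (J u) ≠ 0 := fun h0 => hJ0 u hu0 (p.map_injective (h0.trans (map_zero T).symm))
    suffices hc1 : c = 1 by intro x; rw [hrel, hc1, one_smul]
    set y := T (J u)
    set a := J u
    set b := J w
    have hab : polar Q b a = 0 := by rw [hJp, polar_comm, huw, map_zero]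
    have haa : polar Q a a = 0 := by rw [hJp, polar_self, hu]; simp
    rw [eich_apply] at h3
    have h4 := congrArg (fun z => polar Q z a) h3
    simp only [polar_smul_left, polar_sub_left, polar_add_left, haa, hab, smul_eq_mul, mul_zero, add_zero,
      sub_zero] at h4
    by_contra hc1
    have hya : polar Q y a = 0 := by
      have : (c - 1) * polar Q y a = 0 := by linear_combination -h4
      exact (mul_eq_zero.1 this).resolve_left (sub_ne_zero.2 hc1)
    rw [hya, zero_smul, mul_zero, zero_smul, sub_zero, sub_zero] at h3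
    have h5 := congrArg (fun z => polar Q z b) h3
    simp only [polar_smul_left, polar_add_left, show polar Q a b = 0 by rw [polar_comm]; exact hab,
      smul_eq_mul, mul_zero, add_zero] at h5
    have hyb : polar Q y b = 0 := by
      have : (c - 1) * polar Q y b = 0 := by linear_combination -h5
      exact (mul_eq_zero.1 this).resolve_left (sub_ne_zero.2 hc1)
    rw [hyb, zero_smul, add_zero] at h3
    have h6 : (c - 1) • y = 0 := by rw [sub_smul, one_smul, ← h3, sub_self]
    exact hy0 ((smul_eq_zero.1 h6).resolve_left (sub_ne_zero.2 hc1))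
  -- singular rational vectors are eigenvectors
  have hpt : ∀ e f, Hyp Q₀ e f → ∃ l : F, T (J e) = l • J e := by
    intro e f h
    refine ⟨polar Q (T (J e)) (J f), ?_⟩
    set y := T (J e)
    have hee : polar Q₀ e e = 0 := polar_self_zero h.qe
    have key : ∀ w, polar Q₀ e w = 0 →
        polar Q y (J w) • J e - polar Q y (J e) • J w - (Q (J w) * polar Q y (J e)) • J e = 0 := by
      intro w hw
      have h1 := hT e w h.qe hw h.ne_zero (J e)
      rw [eich_fix (by rw [hJp, hee, map_zero]) (by rw [hJp, hw, map_zero]), eich_apply] at h1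
      linear_combination (norm := module) -h1
    obtain ⟨w₁, hw₁0, -, hw₁⟩ := S₀.rank.second e f h
    have hye : polar Q y (J e) = 0 := by
      have hew : polar Q₀ e w₁ = 0 := polar_swap hw₁.1
      have hfw : polar Q₀ f w₁ = 0 := polar_swap hw₁.2
      have h1 := key w₁ hew
      obtain ⟨z, hz⟩ : ∃ z, polar Q₀ w₁ z ≠ 0 := by
        by_contra hall; push Not at hall; exact hw₁0 (S₀.rank.nondeg _ hall)
      set z' := z - polar Q₀ e z • f with hz'
      have hez : polar Q₀ e z' = 0 := by
        rw [hz', polar_sub_right, polar_smul_right, h.ef, smul_eq_mul, mul_one, sub_self]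
      have hwz : polar Q₀ w₁ z' ≠ 0 := by
        rw [hz', polar_sub_right, polar_smul_right, polar_comm (⇑Q₀) w₁ f, hfw, smul_zero, sub_zero]
        exact hz
      have h2 := congrArg (fun v => polar Q v (J z')) h1
      simp only [polar_sub_left, polar_smul_left, hJp, hez, map_zero, smul_zero, zero_sub, sub_zero,
        polar_zero_left, smul_eq_mul, mul_zero, neg_eq_zero] at h2
      exact (mul_eq_zero.1 h2).resolve_right fun h0 => hwz (j.injective (h0.trans (map_zero j).symm))
    have hw : ∀ w, polar Q₀ e w = 0 → polar Q y (J w) = 0 := fun w hw => by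
      have h1 := key w hw
      rw [hye, zero_smul, mul_zero, zero_smul, sub_zero, sub_zero] at h1
      exact (smul_eq_zero.1 h1).resolve_right (hJ0 e h.ne_zero)
    set d := y - polar Q y (J f) • J e
    have hd : ∀ x : ι → F₀, polar Q d (J x) = 0 := fun x => by
      obtain ⟨x', hx', hx⟩ : ∃ x', polar Q₀ e x' = 0 ∧ x = x' + polar Q₀ e x • f :=
        ⟨x - polar Q₀ e x • f, by rw [polar_sub_right, polar_smul_right, h.ef, smul_eq_mul, mul_one, sub_self],
          (sub_add_cancel _ _).symm⟩
      have hf0 : polar Q d (J f) = 0 := by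
        rw [polar_sub_left, polar_smul_left, hJp, h.ef, map_one, smul_eq_mul, mul_one, sub_self]
      rw [hx, hJadd, hJsmul, polar_add_right, polar_smul_right, hf0, smul_zero, add_zero, polar_sub_left,
        polar_smul_left, hJp, hx', map_zero, smul_zero, hw x' hx', sub_zero]
    refine sub_eq_zero.1 (S.rank.nondeg d fun x => ?_)
    rw [show x = ∑ i, x i • J (Pi.single i 1) by
      funext k; simp [J, Finset.sum_apply, Pi.single_apply, apply_ite j]]
    rw [← polarBilin_apply_apply, map_sum]
    exact Finset.sum_eq_zero fun i _ => by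
      rw [map_smul, polarBilin_apply_apply, hd, smul_zero]
  obtain ⟨e, f, hef⟩ := S₀.rank.exists_pair
  obtain ⟨le, hle⟩ := hpt e f hef
  obtain ⟨lf, hlf⟩ := hpt f e hef.symm
  have hef' : polar Q₀ f e = 1 := hef.symm.ef
  have hperp : ∀ w, polar Q₀ e w = 0 → polar Q₀ f w = 0 →
      T (J w) + p.sig (j (Q₀ w)) • (le • J e) = lf • J w + (lf * j (Q₀ w)) • J e := by
    intro w hw hw'
    have h1 := hT e w hef.qe hw hef.ne_zero (J f)
    rw [eich_apply, eich_apply, hlf, hJQ, polar_smul_left, polar_smul_left, hJp, hJp, hw', hef', map_one,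
      map_zero, zero_smul, add_zero, one_smul, mul_one, smul_zero, zero_smul, add_zero, smul_eq_mul, mul_one,
      map_sub, map_sub, LinearMap.map_smulₛₗ, hle, hlf] at h1
    change lf • J f - T (J w) - p.sig (j (Q₀ w)) • (le • J e) = _ at h1
    linear_combination (norm := module) -h1
  obtain ⟨w₁, hw₁0, hw₁q, hw₁⟩ := S₀.rank.second e f hef
  have hew₁ : polar Q₀ e w₁ = 0 := polar_swap hw₁.1
  have hfw₁ : polar Q₀ f w₁ = 0 := polar_swap hw₁.2
  have hscale : ∀ c : F₀, p.sig (j c) • T (J w₁) = (j c * lf) • J w₁ := fun c => by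
    have h1 := hperp (c • w₁) (by rw [polar_smul_right, hew₁, smul_zero])
      (by rw [polar_smul_right, hfw₁, smul_zero])
    rw [QuadraticMap.map_smul, hw₁q, smul_zero, map_zero, map_zero, zero_smul, mul_zero, zero_smul, add_zero,
      add_zero, hJsmul, LinearMap.map_smulₛₗ, smul_smul, mul_comm] at h1
    exact h1
  have hw₁T : T (J w₁) = lf • J w₁ := by
    have := hscale 1
    rwa [map_one, map_one, one_smul, one_mul] at this
  have hlf0 : lf ≠ 0 := fun h0 => hJ0 f hef.symm.ne_zero
    (p.map_injective ((hlf.trans (by rw [h0, zero_smul])).trans (map_zero T).symm))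
  have hτ : ∀ c : F₀, p.sig (j c) = j c := fun c => by
    have h1 := hscale c
    rw [hw₁T, smul_smul] at h1
    exact mul_right_cancel₀ hlf0 (smul_left_injective F (hJ0 w₁ hw₁0) h1)
  have hlee : le = lf := by
    have h1 := hT f w₁ hef.qf hfw₁ hef.symm.ne_zero (J e)
    rw [eich_apply, eich_apply, hle, hJQ, polar_smul_left, polar_smul_left, hJp, hJp, hew₁, hef.ef, map_one,
      map_zero, zero_smul, add_zero, one_smul, smul_zero, zero_smul, add_zero, smul_eq_mul, mul_one, hw₁q,
      map_zero, zero_mul, zero_smul, sub_zero, sub_zero, map_sub, hle, hw₁T] at h1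
    have h2 : (le - lf) • J w₁ = 0 := by linear_combination (norm := module) h1
    exact sub_eq_zero.1 ((smul_eq_zero.1 h2).resolve_right (hJ0 w₁ hw₁0))
  have hrat : ∀ x, T (J x) = lf • J x := fun x => by
    set x' := x - polar Q₀ f x • e - polar Q₀ e x • f with hx'
    have h1 : polar Q₀ e x' = 0 := by
      rw [hx', polar_sub_right, polar_sub_right, polar_smul_right, polar_smul_right, hef.ef, polar_self_zero hef.qe]
      simp
    have h2 : polar Q₀ f x' = 0 := by
      rw [hx', polar_sub_right, polar_sub_right, polar_smul_right, polar_smul_right, hef', polar_self_zero hef.qf]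
      simp
    have h3 := hperp x' h1 h2
    rw [hτ, hlee, smul_smul, mul_comm (j (Q₀ x'))] at h3
    have h4 : T (J x') = lf • J x' := add_right_cancel h3
    have hx : x = x' + polar Q₀ f x • e + polar Q₀ e x • f := by rw [hx']; abel
    rw [hx, hJadd, hJadd, hJsmul, hJsmul, map_add, map_add, LinearMap.map_smulₛₗ, LinearMap.map_smulₛₗ, h4,
      hle, hlf, hlee]
    show _ + p.sig (j _) • _ + p.sig (j _) • _ = _
    rw [hτ, hτ]
    module
  have hall : ∀ v : ι → F, T v = lf • fun i => p.sig (v i) := fun v => by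
    conv_lhs => rw [show v = ∑ i, v i • J (Pi.single i 1) by
      funext k; simp [J, Finset.sum_apply, Pi.single_apply, apply_ite j]]
    rw [map_sum]
    simp only [LinearMap.map_smulₛₗ, hrat]
    funext k
    simp [J, Finset.sum_apply, Pi.single_apply, apply_ite j, mul_comm]
  have hmult : lf * lf = (p.mult : F) := by
    have h1 := p.map_form (J (e + f))
    change Q (T (J (e + f))) = _ at h1
    rw [hrat, QuadraticMap.map_smul, hJQ, hτ, smul_eq_mul,
      show Q₀ (e + f) = 1 by rw [QuadraticMap.map_add (⇑Q₀), hef.qe, hef.qf, hef.ef]; ring, map_one, mul_one,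
      mul_one] at h1
    exact h1
  have hform : SigmaForm Q p.sig := fun v => by
    have h1 := p.map_form v
    change Q (T v) = _ at h1
    rw [hall, QuadraticMap.map_smul, smul_eq_mul, ← hmult] at h1
    exact mul_left_cancel₀ (mul_ne_zero hlf0 hlf0) h1
  have hp : p = SPair.simHom (SPair.scalarSim (Units.mk0 lf hlf0)) * fieldPair p.sig hform := by
    refine SPair.ext (Units.ext (Matrix.ext_iff_mulVec.mpr fun v => ?_)) (one_mul _).symm
    have hg1 : (SPair.simHom (SPair.scalarSim (Q := Q) (Units.mk0 lf hlf0)) * fieldPair p.sig hform).g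
        = (SPair.scalarSim (Q := Q) (Units.mk0 lf hlf0)).1 := by
      show _ * gmap 1 1 = _
      rw [map_one, mul_one]
      rfl
    rw [hg1, SPair.scalarSim_apply]
    have h1 := hall (fun i => p.sig.symm (v i))
    rw [show T (fun i => p.sig.symm (v i)) = (p.g : Matrix ι ι F) *ᵥ v by
      show p.map _ = _
      rw [SPair.map_apply]
      simp] at h1
    simpa using h1
  rw [hp, SPair.aut_mul, SPair.aut_simHom_scalarSim, one_mul]
  show fieldAut p.sig hform ^ orderOf σ = 1
  rw [← orderOf_dvd_iff_pow_eq_one, orderOf_fieldAut S]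
  refine orderOf_dvd_of_pow_eq_one (pow_orderOf_of_fix fun y hy => ?_)
  obtain ⟨c, rfl⟩ := (hj y).1 hy
  exact hτ c

/-- the criterion at a field automorphism of odd prime order -/
theorem core_fieldAut_iff [Fintype F₀] (S : Setting Q) (S₀ : Setting Q₀) (hcard : 5 ≤ Fintype.card ι)
    {σ : F ≃+* F} (hσ : SigmaForm Q σ) (hj : IsFixedField σ j) (hQ : IsRestriction j Q Q₀)
    (hsimple : IsSimpleGroup (Cfsg.POmega F₀ ⇑Q₀)) {p : ℕ} (hp : p.Prime) (hpo : Odd p) (hord : orderOf σ = p)
    (A : Subgroup (MulAut (Cfsg.POmega F ⇑Q))) (hinn : ∀ k, MulAut.conj k ∈ A) :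
    Cfsg.pPrimeCore p ↥(A ⊓ Subgroup.centralizer {fieldAut σ hσ}) ≠ ⊥ ↔
      Nat.Coprime p (Nat.card ↥(MonoidHom.eqLocus (fieldAut σ hσ).toMonoidHom
        (MonoidHom.id (Cfsg.POmega F ⇑Q)))) := by
  classical
  set φ := fieldAut σ hσ with hφ
  have hinj := conj_injective_of_setting S
  set ψ : ↥(Cfsg.Omega F₀ ⇑Q₀) →* Cfsg.POmega F ⇑Q := (POmegaAut.proj ⇑Q).comp (omegaLift hQ) with hψ
  have hcent : Subgroup.center ↥(Cfsg.Omega F₀ ⇑Q₀) ≤ ψ.ker := fun z hz => by
    obtain ⟨c, hc⟩ := S₀.center_scalar z hz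
    refine (QuotientGroup.eq_one_iff (omegaLift hQ z)).2 (Subgroup.mem_center_iff.2 fun t => ?_)
    have hcv : ∀ v, av (omegaLift hQ z) v = j c • v := by
      intro v
      have hlin : (((omegaLift hQ z : ↥(Cfsg.Omega F ⇑Q)) : ↥(Cfsg.isometryGroup F ⇑Q)).1 : Matrix ι ι F).mulVecLin
          = j c • LinearMap.id := by
        refine (Pi.basisFun F ι).ext fun k => ?_
        have hk : (Pi.single k (1 : F) : ι → F) = fun i => j ((Pi.single k (1 : F₀) : ι → F₀) i) := by
          funext i
          simp [Pi.single_apply, apply_ite j]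
        rw [Pi.basisFun_apply, hk]
        show av (omegaLift hQ z) _ = _
        rw [av_omegaLift_vec, hc]
        funext i
        simp [map_mul]
      exact LinearMap.congr_fun hlin v
    refine Subtype.ext (Orth.isometry_ext fun v => ?_)
    rw [Subgroup.coe_mul, Subgroup.coe_mul, Orth.app_mul, Orth.app_mul]
    show Orth.app t.1 (av (omegaLift hQ z) v) = av (omegaLift hQ z) (Orth.app t.1 v)
    rw [hcv, hcv, Orth.app_smul]
  set ψ' : Cfsg.POmega F₀ ⇑Q₀ →* Cfsg.POmega F ⇑Q :=
    QuotientGroup.lift (Subgroup.center ↥(Cfsg.Omega F₀ ⇑Q₀)) ψ hcent with hψ'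
  have hψ'i : Function.Injective ψ' := by
    haveI := hsimple
    refine (MonoidHom.ker_eq_bot_iff ψ').1
      ((IsSimpleGroup.eq_bot_or_eq_top_of_normal ψ'.ker inferInstance).resolve_right fun htop => ?_)
    obtain ⟨e, f, hef⟩ := S₀.rank.exists_pair
    obtain ⟨w, hw0, hwq, hw⟩ := S₀.rank.second e f hef
    obtain ⟨s, hs⟩ := S₀.omega e w hef.qe (polar_swap hw.1)
    have h1 : ψ' (QuotientGroup.mk s) = 1 := htop.ge (Subgroup.mem_top _)
    obtain ⟨c, hc⟩ := S.center_scalar _ ((QuotientGroup.eq_one_iff (omegaLift hQ s)).1 h1)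
    have h2 := congrArg (fun v => av s v) (rfl : e = e)
    have he : av s e = e := by
      rw [hs, eich_fix (polar_self_zero hef.qe) (polar_swap hw.1)]
    have hf : av s f = f - w := by
      rw [hs, eich_apply, polar_swap hw.2, hef.symm.ef, hwq]
      simp
    have e1 := congrArg (fun x : ι → F₀ => fun i => j (x i)) he
    have e2 := congrArg (fun x : ι → F₀ => fun i => j (x i)) hf
    rw [← av_omegaLift_vec hQ, hc] at e1 e2
    obtain ⟨i, hi⟩ := Function.ne_iff.1 hef.ne_zero
    have hc1 : c = 1 := by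
      have := congrFun e1 i
      simp only [Pi.smul_apply, smul_eq_mul] at this
      exact mul_right_cancel₀ (fun h0 => hi (j.injective (h0.trans (map_zero j).symm))) (by rw [this, one_mul])
    refine hw0 (funext fun k => j.injective ?_)
    have := congrFun e2 k
    simp only [Pi.smul_apply, smul_eq_mul, hc1, one_mul, Pi.sub_apply, map_sub] at this
    rw [Pi.zero_apply, map_zero]
    linear_combination this
  set L := ψ'.range with hL
  have hLfix : ∀ l ∈ L, φ l = l := by
    rintro _ ⟨k, rfl⟩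
    obtain ⟨s, rfl⟩ := proj_surjective ⇑Q₀ k
    show POmegaAut.proj ⇑Q _ = POmegaAut.proj ⇑Q _
    refine congrArg _ (Subtype.ext (Subtype.ext (Units.ext ?_)))
    refine ((fieldPair σ hσ).coe_omegaAut _).trans ?_
    rw [coe_omegaLift]
    ext i k
    simp [fieldPair, hj.apply]
  -- lifts of fixed points are fixed
  have hlift : ∀ t : ↥(Cfsg.Omega F ⇑Q), φ (POmegaAut.proj ⇑Q t) = POmegaAut.proj ⇑Q t →
      gmap σ t.1.1 = t.1.1 := by
    intro t ht
    have hz := proj_eq_iff.1 ((SPair.aut_proj (fieldPair σ hσ) t).symm.trans ht).symm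
    obtain ⟨c, hc⟩ := S.center_scalar _ hz
    set tm := ((t.1.1 : GL ι F) : Matrix ι ι F)
    have hrel : tm.map σ = c • tm := Matrix.ext_iff_mulVec.mpr fun v => by
      have h2 : ((fieldPair σ hσ).omegaAut t) = t * (t⁻¹ * (fieldPair σ hσ).omegaAut t) :=
        (mul_inv_cancel_left _ _).symm
      have h3 : av ((fieldPair σ hσ).omegaAut t) v = c • av t v := by
        rw [h2]
        show Orth.app (t * _ : ↥(Cfsg.Omega F ⇑Q)).1 v = _
        rw [Subgroup.coe_mul, Orth.app_mul]
        show Orth.app t.1 (av _ v) = _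
        rw [hc, Orth.app_smul]
        rfl
      rw [av, SPair.coe_omegaAut] at h3
      simpa [fieldPair, smul_mulVec] using h3
    have hc2 : c * c = 1 := by
      obtain ⟨e, f, hef⟩ := S.rank.exists_pair
      have h := av_iso (t⁻¹ * (fieldPair σ hσ).omegaAut t) (e + f)
      rw [hc, QuadraticMap.map_smul, show Q (e + f) = 1 by
        rw [QuadraticMap.map_add (⇑Q), hef.qe, hef.qf, hef.ef]; ring, smul_eq_mul, mul_one] at h
      exact h
    have hσc : σ c = c := by
      rcases mul_self_eq_one_iff.1 hc2 with rfl | rfl <;> simp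
    obtain ⟨i, k, hik⟩ : ∃ i k, tm i k ≠ 0 := by
      by_contra hall
      push Not at hall
      obtain ⟨e, f, hef⟩ := S.rank.exists_pair
      refine hef.ne_zero (Orth.app_injective t.1 ((?_ : Orth.app t.1 e = 0).trans (Orth.app_zero _).symm))
      funext r
      simp [Orth.app, mulVec, dotProduct, show ∀ a b, ((t.1.1 : GL ι F) : Matrix ι ι F) a b = 0 from hall]
    have hiter : ∀ r : ℕ, (σ ^ r) (tm i k) = c ^ r * tm i k := by
      intro r
      induction r with
      | zero => simp
      | succ r ih =>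
        rw [pow_succ', RingAut.mul_apply, ih, map_mul, map_pow, hσc,
          show σ (tm i k) = c * tm i k from congrFun (congrFun hrel i) k, ← mul_assoc, ← pow_succ]
    have hcp : c ^ p = 1 := by
      have h := hiter p
      rw [← hord, pow_orderOf_eq_one, RingAut.one_apply, hord] at h
      exact mul_right_cancel₀ hik (by rw [← h, one_mul])
    have hc1 : c = 1 := by
      obtain ⟨r, hr⟩ := hpo
      rw [hr, pow_succ, pow_mul, pow_two, hc2, one_pow, one_mul] at hcp
      exact hcp
    refine Units.ext ?_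
    show tm.map σ = tm
    rw [hrel, hc1, one_smul]
  have h1v : ∃ v : ι → F₀, Q₀ v = 1 := by
    obtain ⟨e, f, hef⟩ := S₀.rank.exists_pair
    exact ⟨e + f, by rw [QuadraticMap.map_add (⇑Q₀), hef.qe, hef.qf, hef.ef]; ring⟩
  haveI : Nontrivial ↥L := by
    haveI := hsimple
    exact (MonoidHom.ofInjective hψ'i).symm.toEquiv.nontrivial
  constructor
  · intro hne
    rw [Nat.Prime.coprime_iff_not_dvd hp]
    intro hdvd
    apply hne
    have hdvdL : p ∣ Nat.card ↥L := by
      haveI : Fact p.Prime := ⟨hp⟩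
      obtain ⟨z, hz⟩ := exists_prime_orderOf_dvd_card' p hdvd
      obtain ⟨t, ht⟩ := proj_surjective ⇑Q (z : Cfsg.POmega F ⇑Q)
      obtain ⟨t₀, ht₀⟩ := exists_liftIso_of_fixed hj hQ h1v t.1 (hlift t (by rw [ht]; exact z.2))
      have hmem := sq_mem_omega (nondeg_of_setting S₀) hcard t₀
      have hψz : ψ ⟨_, hmem⟩ = ((z * z : _) : Cfsg.POmega F ⇑Q) := by
        rw [Subgroup.coe_mul, ← ht, ← map_mul]
        refine congrArg (POmegaAut.proj ⇑Q) (Subtype.ext ?_)
        show liftIso hQ (t₀ * t₀) = t.1 * t.1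
        rw [map_mul, ht₀]
      have hzz : orderOf (z * z) = p := by
        refine orderOf_eq_prime ?_ ?_
        · rw [← pow_two, ← pow_mul, mul_comm, pow_mul, ← hz, pow_orderOf_eq_one, one_pow]
        · intro h
          have h' : orderOf z ∣ 2 := orderOf_dvd_of_pow_eq_one (by rw [pow_two]; exact h)
          rw [hz, Nat.prime_dvd_prime_iff_eq hp Nat.prime_two] at h'
          subst h'
          exact absurd hpo (by decide)
      have hmemL : ((z * z : _) : Cfsg.POmega F ⇑Q) ∈ L := ⟨QuotientGroup.mk ⟨_, hmem⟩, hψz⟩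
      rw [← hzz, ← Subgroup.orderOf_coe (z * z), ← Subgroup.orderOf_mk _ hmemL]
      exact orderOf_dvd_natCard _
    refine LocalBalance.core_eq_bot_of_subgroup hinj A hinn φ L hLfix ?_ ?_ ?_
    · rintro k hk _ ⟨y, rfl⟩
      obtain ⟨s, rfl⟩ := proj_surjective ⇑Q₀ y
      obtain ⟨t, rfl⟩ := proj_surjective ⇑Q k
      obtain ⟨t₀, ht₀⟩ := exists_liftIso_of_fixed hj hQ h1v t.1 (hlift t hk)
      refine ⟨QuotientGroup.mk ⟨t₀ * s.1 * t₀⁻¹, (inferInstance : (commutator _).Normal).conj_mem _ s.2 t₀⟩, ?_⟩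
      show POmegaAut.proj ⇑Q _ = POmegaAut.proj ⇑Q t * POmegaAut.proj ⇑Q (omegaLift hQ s) * (POmegaAut.proj ⇑Q t)⁻¹
      rw [← map_inv, ← map_mul, ← map_mul]
      refine congrArg _ (Subtype.ext ?_)
      show liftIso hQ (t₀ * s.1 * t₀⁻¹) = t.1 * liftIso hQ s.1 * t.1⁻¹
      rw [map_mul, map_mul, map_inv, ht₀]
    · intro M hM hco
      haveI := hsimple
      haveI : IsSimpleGroup ↥L := MulEquiv.isSimpleGroup (MonoidHom.ofInjective hψ'i).symm
      refine (IsSimpleGroup.eq_bot_or_eq_top_of_normal M hM).resolve_right fun h => ?_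
      rw [h, Subgroup.card_top] at hco
      exact hp.ne_one (Nat.eq_one_of_dvd_coprimes hco hdvdL dvd_rfl)
    · intro a _ hco hfix
      have h := pow_eq_one_of_fix_rational S S₀ hj hQ a fun s => hfix _ ⟨QuotientGroup.mk s, rfl⟩
      rw [hord] at h
      exact orderOf_eq_one_iff.1 (Nat.eq_one_of_dvd_coprimes hco dvd_rfl (orderOf_dvd_of_pow_eq_one h))
  · intro hco
    obtain ⟨⟨l, hl⟩, hl1⟩ := exists_ne (1 : ↥L)
    exact LocalBalance.core_ne_bot_of_coprime hinj A hinn φ ⟨l, fun h => hl1 (Subtype.ext h), hLfix l hl⟩ hco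

end Cfsg.Agent.Lib.POmegaBalance
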