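import Cfsg.Agent.Lib.POmegaBalance.Field
import Cfsg.Agent.Lib.POmegaBalance.Graph
import Cfsg.Agent.Lib.POmegaField.MinusThms
import Cfsg.Agent.Lib.POmegaDiag.Semilinear
import Cfsg.Agent.Lib.Classical.EichlerStandard

/-!
# Local balance for `PΩ⁻_{2m+2}(q)` at outer automorphisms of prime order
-/

set_option autoImplicit false

namespace Cfsg.Agent.Lib.POmegaBalance

open QuadraticMap Matrix FieldDescent POmegaAut POmegaField POmegaClass

universe u

variable {F : Type u} [Field F] [Fintype F] {m : ℕ}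

/-- an irreducible `X² + X + b` over `F` whose `b` is fixed by all automorphisms of odd order -/
theorem exists_aniso_fixed : ∃ a b : F, Classical.BinAniso a b ∧
    ∀ τ : F ≃+* F, Odd (orderOf τ) → τ a = a ∧ τ b = b := by
  classical
  set K : Subfield F := ⨅ τ ∈ {τ : F ≃+* F | Odd (orderOf τ)}, fixedField τ
  have hmem : ∀ x : F, x ∈ K ↔ ∀ τ : F ≃+* F, Odd (orderOf τ) → τ x = x := fun x => by
    simp [K, Subfield.mem_iInf, mem_fixedField]
  obtain ⟨b, hb⟩ : ∃ b : ↥K, ∀ x : ↥K, x * x + x + b ≠ 0 := by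
    have hni : ¬ Function.Injective (fun x : ↥K => -(x * x + x)) := fun hi => by
      have h1 : (-1 : ↥K) = 0 := hi (a₁ := -1) (a₂ := 0) (by ring)
      exact one_ne_zero (neg_eq_zero.1 h1)
    have hns : ¬ Function.Surjective (fun x : ↥K => -(x * x + x)) := fun hs =>
      hni (Finite.injective_iff_surjective.2 hs)
    simp only [Function.Surjective, not_forall, not_exists] at hns
    obtain ⟨b, hb⟩ := hns
    exact ⟨b, fun x hx => hb x (by linear_combination -hx)⟩
  refine ⟨1, b, fun z₁ z₂ h => ?_, fun τ hτ => ⟨map_one τ, (hmem _).1 b.2 τ hτ⟩⟩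
  by_cases h0 : z₂ = 0
  · refine ⟨?_, h0⟩
    rw [h0] at h
    exact pow_eq_zero_iff two_ne_zero |>.1 (by linear_combination h)
  exfalso
  set x := z₁ / z₂
  have hx : x * x + x + (b : F) = 0 := by
    simp only [x]
    field_simp
    linear_combination h
  refine hb ⟨x, (hmem x).2 fun τ hτ => ?_⟩ (Subtype.ext hx)
  have hτb := (hmem _).1 b.2 τ hτ
  have hroot : ∀ y : F, y * y + y + (b : F) = 0 → y = x ∨ y = -1 - x := fun y hy => by
    have h1 : (y - x) * (y + x + 1) = 0 := by linear_combination hy - hx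
    rcases mul_eq_zero.1 h1 with h2 | h2
    · exact Or.inl (sub_eq_zero.1 h2)
    · exact Or.inr (by linear_combination h2)
  have himg : τ x = x ∨ τ x = -1 - x := hroot _ (by
    have := congrArg τ hx
    simpa [map_add, map_mul, hτb] using this)
  rcases himg with h1 | h1
  · exact h1
  have h2 : ∀ k : ℕ, (τ ^ (2 * k)) x = x := fun k => by
    induction k with
    | zero => simp
    | succ k ih =>
      rw [mul_add, mul_one, pow_add, RingAut.mul_apply, pow_two, RingAut.mul_apply, h1, map_sub, map_neg, map_one,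
        h1, show (-1 : F) - (-1 - x) = x by ring, ih]
  obtain ⟨k, hk⟩ := hτ
  have h3 : (τ ^ orderOf τ) x = x := by rw [pow_orderOf_eq_one]; rfl
  rw [hk, pow_succ', RingAut.mul_apply, h2] at h3
  exact h3

omit [Fintype F] in
/-- the core transported along an isomorphism of automorphism groups -/
theorem core_congr {X : Type*} [Group X] {Y : Type*} [Group Y] [Finite X] (e : X ≃* Y) (A : Subgroup Y) (x : X) (p : ℕ) :
    Cfsg.pPrimeCore p ↥(A ⊓ Subgroup.centralizer {e x}) = ⊥ ↔
      Cfsg.pPrimeCore p ↥(A.comap e.toMonoidHom ⊓ Subgroup.centralizer {x}) = ⊥ := by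
  have hA : (A.comap e.toMonoidHom).map e.toMonoidHom = A := Subgroup.map_comap_eq_self_of_surjective e.surjective A
  obtain ⟨f⟩ := POmegaField.nonempty_centraliser_map e (A.comap e.toMonoidHom) x
  rw [hA] at f
  haveI : Finite Y := Finite.of_equiv X e.toEquiv
  rw [← Cfsg.Agent.Lib.PSolvable.map_pPrimeCore_equiv f,
    Subgroup.map_eq_bot_iff_of_injective _ f.injective]

omit [Fintype F] in
theorem isSimpleGroup_minus [Finite F] (hm : 3 ≤ m) {a b : F} (hab : Classical.BinAniso a b) :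
    IsSimpleGroup (Cfsg.POmega F ⇑(Classical.minusForm m F a b)) := by
  cases nonempty_fintype F
  obtain ⟨k, rfl⟩ : ∃ k, m = k + 3 := ⟨m - 3, by omega⟩
  rw [Classical.coe_minusForm]
  exact Classical.isSimpleGroup_POmega_minus hab k

variable {a b : F}

/-- `x` of prime order is field or graph; the criterion -/
theorem local_balance_minus {r : ℕ} [CharP F r] (hm : 3 ≤ m) (hab : Classical.BinAniso a b)
    (A : Subgroup (MulAut (Cfsg.POmega F ⇑(Classical.minusForm m F a b))))
    (hinn : ∀ k, MulAut.conj k ∈ A) {p : ℕ} [Fact p.Prime] (hpr : p ≠ r)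
    (x : MulAut (Cfsg.POmega F ⇑(Classical.minusForm m F a b))) (hord : orderOf x = p)
    (hnot : ¬ ∃ g : GL ((Fin m ⊕ Fin m) ⊕ Fin 2) F,
      g ∈ Cfsg.Geo.quadSimilarityGroup (F := F) ⇑(Classical.minusForm m F a b) ∧
      Cfsg.PreservesSingularClassesMinus m a b (g : Matrix _ _ F) ∧
      Cfsg.IsInducedBySemilinearPOmega ⇑(Classical.minusForm m F a b) g (RingEquiv.refl F) x) :
    Cfsg.pPrimeCore p ↥(A ⊓ Subgroup.centralizer {x}) ≠ ⊥ ↔
      ((∃ (a' b' : F) (φ' : ((Fin m ⊕ Fin m) ⊕ Fin 2 → F) → F) (_ : φ' = ⇑(Classical.minusForm m F a' b'))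
        (ψ : Cfsg.POmega F ⇑(Classical.minusForm m F a b) ≃* Cfsg.POmega F φ') (σ : F ≃+* F),
        (∀ z₁ z₂ : F, z₁ ^ 2 + a' * z₁ * z₂ + b' * z₂ ^ 2 = 0 → z₁ = 0 ∧ z₂ = 0) ∧
        σ ≠ RingEquiv.refl F ∧ σ a' = a' ∧ σ b' = b' ∧ Cfsg.IsFieldAutPOmegaOf φ' σ ((ψ.symm.trans x).trans ψ)) ∧
      Nat.Coprime p (Nat.card ↥(MonoidHom.eqLocus x.toMonoidHom
        (MonoidHom.id (Cfsg.POmega F ⇑(Classical.minusForm m F a b)))))) := by
  classical
  have hp : p.Prime := Fact.out
  have S := setting_minus hab hm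
  rcases hp.eq_two_or_odd' with rfl | hpo
  · -- an involution is a graph automorphism
    have h2 : (2 : F) ≠ 0 := fun h => hpr ((Nat.prime_dvd_prime_iff_eq (CharP.char_is_prime F r) Nat.prime_two).1
      ((CharP.cast_eq_zero_iff F r 2).1 (by exact_mod_cast h))).symm
    have hchar : ringChar F ≠ 2 := fun e => h2 (by
      haveI : CharP F 2 := e ▸ ringChar.charP F
      exact CharTwo.two_eq_zero)
    have hodd : Odd (Fintype.card F) := Nat.odd_iff.2 (FiniteField.odd_card_of_char_ne_two hchar)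
    obtain ⟨q, rfl⟩ := S.exists_induced x
    set E := POmegaDiag.minus_even hodd hm hab
    have hq2 : q.aut * q.aut = 1 := by
      have h := pow_orderOf_eq_one q.aut
      rwa [hord, pow_two] at h
    have hs := E.sig_eq_one S q hq2 (POmegaDiag.minus_disc hodd hab)
    have hmem : q.g ∈ Cfsg.Geo.quadSimilarityGroup (F := F) ⇑(Classical.minusForm m F a b) := ⟨q.mult, fun v => by
      have h := q.map_form v
      rw [q.map_apply, hs] at h
      exact h⟩
    have hq : q = SPair.ofSim q.g hmem := SPair.ext rfl hs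
    set g : POmegaDiag.Sim (Classical.minusForm m F a b) := ⟨q.g, hmem⟩
    have hxg : q.aut = POmegaDiag.simAut g := congrArg SPair.aut hq
    have hg : E.proper g = -1 := (Int.units_eq_one_or _).resolve_left fun h => hnot
      ⟨g.1, g.2, (POmegaDiag.minus_preserves hodd hm hab g).2 (MonoidHom.mem_ker.2 h),
        (E.isInduced_iff g q.aut).2 hxg⟩
    refine iff_of_false (not_not.2 ?_) ?_
    · rw [hxg]
      exact core_eq_bot_graph E S (by omega) A hinn g hg (hxg ▸ hord)
    · rintro ⟨⟨a', b', φ', hφ', ψ, σ, hab', -, ha, hb, hx⟩, -⟩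
      obtain ⟨T, hT⟩ := exists_minus_equiv (m := m) hab hab'
      have ho := (exists_setup_minus hm hab q.aut a' b' φ' hφ' ψ σ hab' ha hb hx T hT).2
      haveI : Fintype ↥(fixedField σ) := Fintype.ofFinite _
      obtain ⟨j, hj⟩ := exists_isFixedField σ ↥(fixedField σ) (Nat.card_eq_fintype_card).symm
      obtain ⟨a₀, rfl⟩ := (hj a').1 ha
      obtain ⟨b₀, rfl⟩ := (hj b').1 hb
      have h3 := odd_orderOf_minus hj hab'
      rw [← ho, hord] at h3
      exact absurd h3 (by decide)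
  · -- a field automorphism
    obtain ⟨a', b', hab', hb'⟩ := exists_aniso_fixed (F := F)
    have S' := setting_minus hab' hm
    obtain ⟨T, hT⟩ := exists_minus_equiv (m := m) hab hab'
    set θ := pomegaTransport T hT
    set Θ := MulAut.congr θ
    obtain ⟨x', rfl⟩ := Θ.surjective x
    rw [MulEquiv.orderOf_eq] at hord
    obtain ⟨q, hq⟩ := S'.exists_induced x'
    set σ := q.sig with hσdef
    have hqp : (q ^ p).aut = 1 := by
      show SPair.autHom (q ^ p) = 1
      rw [map_pow, show SPair.autHom q = x' from hq.symm, ← hord, pow_orderOf_eq_one]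
    obtain ⟨c, hc⟩ := (SPair.aut_eq_one_iff S' _).1 hqp
    have hσp : σ ^ p = 1 := by
      have := congrArg SPair.sigHom hc
      rw [map_pow] at this
      exact this
    have hσ1 : σ ≠ 1 := by
      intro h
      have hmem : q.g ∈ GO (Classical.minusForm m F a' b') := ⟨q.mult, fun v => by
        have h1 := q.map_form v
        rw [q.map_apply, ← hσdef, h] at h1
        exact h1⟩
      set g : GO (Classical.minusForm m F a' b') := ⟨q.g, hmem⟩
      have hq' : q = SPair.simHom g := SPair.ext rfl h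
      obtain ⟨χ, -, -, -, -, hχ⟩ := exists_classHom (m := m) hab
      obtain ⟨χ', -, -, -, -, hχ'⟩ := exists_classHom (m := m) hab'
      have hg : χ' g = 1 := by
        have h1 : simAut (g ^ p) = 1 := by
          rw [map_pow, show simAut g = x' by rw [hq, hq']; rfl, ← hord, pow_orderOf_eq_one]
        obtain ⟨d, hd⟩ := (simAut_eq_one_iff S' _).1 h1
        have h2 := congrArg χ' hd
        rw [map_pow, hχ'.scalarSim hab' (by omega) d] at h2
        rcases Int.units_eq_one_or (χ' g) with h3 | h3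
        · exact h3
        · rw [h3, hpo.neg_one_pow] at h2
          exact absurd h2 (by decide)
      refine hnot ⟨(simTransport T hT g).1, (simTransport T hT g).2,
        (preservesMinus_iff hab (by omega) hχ _).2 ?_, (isSimilarityInduced_iff _ _).2 ?_⟩
      · rw [hχ.conj_eq hab hab' (by omega) hχ' T (l := 1) (fun v => by rw [one_mul, hT]) g _ rfl]
        exact hg
      · rw [← congr_simAut, show simAut g = x' by rw [hq, hq']; rfl]
    have hσ : orderOf σ = p := orderOf_eq_prime hσp hσ1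
    clear_value σ
    obtain ⟨ha, hb⟩ := hb' σ (hσ ▸ hpo)
    haveI : Fintype ↥(fixedField σ) := Fintype.ofFinite _
    obtain ⟨j, hj⟩ := exists_isFixedField σ ↥(fixedField σ) (Nat.card_eq_fintype_card).symm
    obtain ⟨b₀, rfl⟩ := (hj b').1 hb
    obtain ⟨a₀, rfl⟩ := (hj a').1 ha
    have hσ' := sigmaForm_minus (m := m) σ (hj.apply a₀) (hj.apply b₀)
    have hQ := isRestriction_minus (m := m) j a₀ b₀
    have h0 := binAniso_restrict j hab'
    have S₀ := setting_minus h0 hm
    obtain ⟨g, hg⟩ := pair_eq σ hσ' q hσdef.symm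
    have hx : x' = simAut g * fieldAut σ hσ' := by rw [hq, hg, SPair.aut_mul]; rfl
    obtain ⟨k, hk⟩ := exists_conj_of_pow S' hσ' hj hQ (hasDescent_minus j hab') g
      (by rw [hσ, ← hx, ← hord, pow_orderOf_eq_one])
    rw [← hx] at hk
    have hfield : ∃ (a' b' : F) (φ' : ((Fin m ⊕ Fin m) ⊕ Fin 2 → F) → F) (_ : φ' = ⇑(Classical.minusForm m F a' b'))
        (ψ : Cfsg.POmega F ⇑(Classical.minusForm m F a b) ≃* Cfsg.POmega F φ') (τ : F ≃+* F),
        (∀ z₁ z₂ : F, z₁ ^ 2 + a' * z₁ * z₂ + b' * z₂ ^ 2 = 0 → z₁ = 0 ∧ z₂ = 0) ∧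
        τ ≠ RingEquiv.refl F ∧ τ a' = a' ∧ τ b' = b' ∧
        Cfsg.IsFieldAutPOmegaOf φ' τ ((ψ.symm.trans (Θ x')).trans ψ) := by
      refine ⟨j a₀, j b₀, _, rfl, θ.symm.trans (simAut k)⁻¹, σ, hab', hσ1, hj.apply a₀, hj.apply b₀,
        (isFieldAutOf_iff σ hσ' _).2 ?_⟩
      have hk' : (simAut k)⁻¹ * x' * simAut k = fieldAut σ hσ' := by rw [hk]; group
      rw [← hk']
      refine MulEquiv.ext fun y => ?_
      show (simAut k)⁻¹ (θ.symm (θ (x' (θ.symm (θ ((simAut k) y)))))) = (simAut k)⁻¹ (x' (simAut k y))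
      rw [MulEquiv.symm_apply_apply, MulEquiv.symm_apply_apply]
    rw [and_iff_right hfield]
    have hcard : Nat.card ↥(MonoidHom.eqLocus (Θ x').toMonoidHom
          (MonoidHom.id (Cfsg.POmega F ⇑(Classical.minusForm m F a b))))
        = Nat.card ↥(MonoidHom.eqLocus x'.toMonoidHom
          (MonoidHom.id (Cfsg.POmega F ⇑(Classical.minusForm m F (j a₀) (j b₀))))) := by
      refine (Nat.card_congr (Equiv.subtypeEquiv θ.toEquiv fun y => ?_)).symm
      show x' y = y ↔ θ (x' (θ.symm (θ y))) = θ y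
      rw [MulEquiv.symm_apply_apply, θ.injective.eq_iff]
    haveI : Finite (MulAut (Cfsg.POmega F ⇑(Classical.minusForm m F (j a₀) (j b₀)))) :=
      Finite.of_injective (fun e => (e : Cfsg.POmega F _ → Cfsg.POmega F _)) DFunLike.coe_injective
    rw [hcard, hk, LocalBalance.natCard_fixed_conj, ne_eq, core_congr Θ, LocalBalance.core_conj]
    have hsimple := isSimpleGroup_minus hm h0
    refine core_fieldAut_iff S' S₀ (by simp; omega) hσ' hj hQ hsimple hp hpo hσ _ fun y => ?_
    show Θ (simAut k * MulAut.conj y * (simAut k)⁻¹) ∈ A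
    rw [LocalBalance.mul_conj_inv]
    rw [show Θ (MulAut.conj (simAut k y)) = MulAut.conj (θ (simAut k y)) from
      MulEquiv.ext fun z => by simp [Θ, MulAut.congr]]
    exact hinn _

/-- the criterion for any presentation of the form -/
theorem local_balance_minus_of_eq {r : ℕ} [CharP F r] (hm : 3 ≤ m) (hab : Classical.BinAniso a b)
    (φ : ((Fin m ⊕ Fin m) ⊕ Fin 2 → F) → F) (hφ : φ = ⇑(Classical.minusForm m F a b))
    (A : Subgroup (MulAut (Cfsg.POmega F φ))) (hinn : ∀ k, MulAut.conj k ∈ A) {p : ℕ} [Fact p.Prime] (hpr : p ≠ r)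
    (x : MulAut (Cfsg.POmega F φ)) (hord : orderOf x = p)
    (hnot : ¬ ∃ g : GL ((Fin m ⊕ Fin m) ⊕ Fin 2) F, g ∈ Cfsg.Geo.quadSimilarityGroup (F := F) φ ∧
      Cfsg.PreservesSingularClassesMinus m a b (g : Matrix _ _ F) ∧
      Cfsg.IsInducedBySemilinearPOmega φ g (RingEquiv.refl F) x) :
    Cfsg.pPrimeCore p ↥(A ⊓ Subgroup.centralizer {x}) ≠ ⊥ ↔
      ((∃ (a' b' : F) (φ' : ((Fin m ⊕ Fin m) ⊕ Fin 2 → F) → F) (_ : φ' = ⇑(Classical.minusForm m F a' b'))
        (ψ : Cfsg.POmega F φ ≃* Cfsg.POmega F φ') (σ : F ≃+* F),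
        (∀ z₁ z₂ : F, z₁ ^ 2 + a' * z₁ * z₂ + b' * z₂ ^ 2 = 0 → z₁ = 0 ∧ z₂ = 0) ∧
        σ ≠ RingEquiv.refl F ∧ σ a' = a' ∧ σ b' = b' ∧ Cfsg.IsFieldAutPOmegaOf φ' σ ((ψ.symm.trans x).trans ψ)) ∧
      Nat.Coprime p (Nat.card ↥(MonoidHom.eqLocus x.toMonoidHom (MonoidHom.id (Cfsg.POmega F φ))))) := by
  subst hφ
  exact local_balance_minus (r := r) hm hab A hinn hpr x hord hnot

end Cfsg.Agent.Lib.POmegaBalance
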