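import Cfsg.Agent.Lib.POmegaBalance.Rational
import Cfsg.Agent.Lib.Classical.EichlerStandard

/-!
# Local balance for `Ω_{2m+1}(q)` at outer automorphisms of prime order
-/

set_option autoImplicit false

namespace Cfsg.Agent.Lib.POmegaBalance

open QuadraticMap Matrix FieldDescent POmegaAut POmegaField

variable {F : Type*} [Field F] {m : ℕ}

local notation "Q" => Classical.oddQuadForm m F

/-- three pairs of the standard odd form -/
theorem odd_frame3 (hm : 3 ≤ m) : POmegaDiag.Frame3 (Q)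
    (fun i => Pi.single (Sum.inr (Sum.inl (Fin.castLE hm i))) 1)
    (fun i => Pi.single (Sum.inr (Sum.inr (Fin.castLE hm i))) 1) := by
  refine ⟨fun i => ?_, fun i => ?_, fun i k => ?_, fun i k => ?_, fun i k => ?_⟩
  · simp [Classical.coe_oddQuadForm, Cfsg.quadFormOdd]
  · simp [Classical.coe_oddQuadForm, Cfsg.quadFormOdd]
  all_goals rw [Classical.coe_oddQuadForm, StdForms.polar_odd]
  · simp [Pi.single_apply, eq_comm]
  · simp [Pi.single_apply]
  · simp [Pi.single_apply]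

variable [Fintype F]

theorem omega_center_eq_bot (h2 : (2 : F) ≠ 0) (hm : 3 ≤ m) :
    Subgroup.center ↥(Cfsg.Omega F ⇑(Q)) = ⊥ :=
  Orth.center_omega_eq_bot h2 (nondeg_of_setting (setting_odd h2 hm)) (by simp; omega) ⟨m, by simp; omega⟩

theorem proj_injective_odd (h2 : (2 : F) ≠ 0) (hm : 3 ≤ m) : Function.Injective (POmegaAut.proj ⇑(Q)) := fun s t h => by
  have := proj_eq_iff.1 h
  rw [omega_center_eq_bot h2 hm, Subgroup.mem_bot, inv_mul_eq_one] at this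
  exact this

theorem pomega_center_eq_bot (h2 : (2 : F) ≠ 0) (hm : 3 ≤ m) :
    Subgroup.center (Cfsg.POmega F ⇑(Q)) = ⊥ := by
  refine (Subgroup.eq_bot_iff_forall _).2 fun z hz => ?_
  obtain ⟨s, rfl⟩ := proj_surjective ⇑(Q) z
  have hs : s ∈ Subgroup.center ↥(Cfsg.Omega F ⇑(Q)) := Subgroup.mem_center_iff.2 fun t =>
    proj_injective_odd h2 hm (by rw [map_mul, map_mul]; exact Subgroup.mem_center_iff.1 hz _)
  rw [omega_center_eq_bot h2 hm, Subgroup.mem_bot] at hs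
  rw [hs, map_one]

theorem isSimpleGroup_omega_odd (hodd : Odd (Fintype.card F)) (hm : 3 ≤ m) :
    IsSimpleGroup ↥(Cfsg.Omega F ⇑(Q)) := by
  have h2 : (2 : F) ≠ 0 := Classical.two_ne_zero_of_odd_card hodd
  obtain ⟨k, rfl⟩ : ∃ k, m = k + 3 := ⟨m - 3, by omega⟩
  have h := Classical.isSimpleGroup_POmega_odd h2 k
  rw [← Classical.coe_oddQuadForm] at h
  haveI := h
  exact MulEquiv.isSimpleGroup (MulEquiv.ofBijective (proj ⇑(Classical.oddQuadForm (k + 3) F))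
    ⟨proj_injective_odd h2 hm, proj_surjective _⟩)

/-- an involution in `Ω` -/
theorem exists_omega_involution (h2 : (2 : F) ≠ 0) (hm : 3 ≤ m) :
    ∃ s : ↥(Cfsg.Omega F ⇑(Q)), orderOf s = 2 := by
  classical
  have hn := nondeg_of_setting (setting_odd (F := F) h2 hm)
  have hf := odd_frame3 (F := F) hm
  set e0 : Unit ⊕ (Fin m ⊕ Fin m) → F := Pi.single (Sum.inr (Sum.inl (Fin.castLE hm 0))) 1
  set f0 : Unit ⊕ (Fin m ⊕ Fin m) → F := Pi.single (Sum.inr (Sum.inr (Fin.castLE hm 0))) 1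
  set e1 : Unit ⊕ (Fin m ⊕ Fin m) → F := Pi.single (Sum.inr (Sum.inl (Fin.castLE hm 1))) 1
  set f1 : Unit ⊕ (Fin m ⊕ Fin m) → F := Pi.single (Sum.inr (Sum.inr (Fin.castLE hm 1))) 1
  have q0 : Q (e0 + f0) = 1 := by
    rw [QuadraticMap.map_add (⇑(Q)), hf.qe 0, hf.qf 0, hf.ef 0 0]; simp
  have q1 : Q (e1 + f1) = 1 := by
    rw [QuadraticMap.map_add (⇑(Q)), hf.qe 1, hf.qf 1, hf.ef 1 1]; simp
  have h01 : polar ⇑(Q) (e1 + f1) (e0 + f0) = 0 := by
    have fe : polar ⇑(Q) f1 e0 = 0 := by rw [polar_comm, hf.ef 0 1]; simp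
    have ee : polar ⇑(Q) e1 e0 = 0 := hf.ee 1 0
    have ef : polar ⇑(Q) e1 f0 = 0 := by rw [hf.ef 1 0]; simp
    have ff : polar ⇑(Q) f1 f0 = 0 := hf.ff 1 0
    simp [polar_add_left, polar_add_right, ee, ef, ff, fe]
  have hv : Q (e0 + f0) ≠ 0 := q0 ▸ one_ne_zero
  have hw : Q (e1 + f1) ≠ 0 := q1 ▸ one_ne_zero
  set P := Orth.refl (Q) (e0 + f0) hv * Orth.refl (Q) (e1 + f1) hw
  have hP : P ∈ Cfsg.Omega F ⇑(Q) := (Orth.mem_omega_iff h2 hn (by simp; omega) _).2 ⟨by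
      rw [map_mul, Orth.detSign_refl, Orth.detSign_refl]; rfl, by
      rw [map_mul, Orth.spinor_refl_of_isSquare h2 hv (q0 ▸ IsSquare.one),
        Orth.spinor_refl_of_isSquare h2 hw (q1 ▸ IsSquare.one)]; rfl⟩
  have h10 : polar ⇑(Q) (e0 + f0) (e1 + f1) = 0 := by rw [polar_comm]; exact h01
  have hfix : Orth.app P (e0 + f0) = -(e0 + f0) := by
    rw [Orth.app_mul, Orth.app_refl_of_polar_eq_zero hw h01, Orth.app_refl, polar_self, q0]
    simp [two_smul]
    module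
  refine ⟨⟨P, hP⟩, orderOf_eq_prime (Subtype.ext ?_) ?_⟩
  · show P ^ 2 = 1
    have hc : Orth.refl (Q) (e0 + f0) hv * Orth.refl (Q) (e1 + f1) hw
        = Orth.refl (Q) (e1 + f1) hw * Orth.refl (Q) (e0 + f0) hv := Orth.isometry_ext fun x => by
      rw [Orth.app_mul, Orth.app_mul, Orth.app_refl, Orth.app_refl, Orth.app_refl, Orth.app_refl]
      simp only [polar_sub_right, polar_smul_right, h01, h10, smul_zero, sub_zero]
      abel
    rw [pow_two]
    show _ * _ * (_ * _) = _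
    rw [mul_assoc, ← mul_assoc (Orth.refl (Q) (e1 + f1) hw), ← hc, mul_assoc, Orth.refl_mul_self,
      mul_one, Orth.refl_mul_self]
  · intro h
    have h1 : P = 1 := congrArg Subtype.val h
    rw [h1, Orth.app_one] at hfix
    have h3 := congrArg ⇑(Q) (eq_neg_iff_add_eq_zero.1 hfix)
    rw [← two_smul F, QuadraticMap.map_smul, q0, QuadraticMap.map_zero, smul_eq_mul, mul_one] at h3
    exact mul_ne_zero h2 h2 h3

/-- an automorphism fixing `Ω` over the fixed field of `σ` is a field automorphism killed by `|σ|` -/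
theorem pow_eq_one_of_fix (hodd : Odd (Fintype.card F)) (hm : 3 ≤ m) {σ : F ≃+* F}
    (a : MulAut (Cfsg.POmega F ⇑(Q)))
    (hfix : ∀ s : ↥(Cfsg.Omega ↥(fixedField σ) ⇑(Classical.oddQuadForm m ↥(fixedField σ))),
      a (POmegaAut.proj ⇑(Q) (omegaLift (isRestriction_odd (fixedField σ).subtype) s))
        = POmegaAut.proj ⇑(Q) (omegaLift (isRestriction_odd (fixedField σ).subtype) s)) :
    a ^ orderOf σ = 1 := by
  classical
  have h2 : (2 : F) ≠ 0 := Classical.two_ne_zero_of_odd_card hodd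
  have S := setting_odd (F := F) h2 hm
  haveI : Fintype ↥(fixedField σ) := Fintype.ofFinite _
  set F₀ := ↥(fixedField σ)
  set j : F₀ →+* F := (fixedField σ).subtype
  have hQ : IsRestriction j (Q) (Classical.oddQuadForm m F₀) := isRestriction_odd j
  obtain ⟨r, hr⟩ := CharP.exists F
  haveI := hr
  haveI : Fact r.Prime := ⟨CharP.char_is_prime F r⟩
  have hr2 : r ≠ 2 := fun h => h2 (by subst h; exact_mod_cast CharP.cast_eq_zero F 2)
  haveI : CharP F₀ r := RingHom.charP j j.injective r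
  obtain ⟨p, hp⟩ := S.exists_induced a
  set τ := p.sig with hτ
  have hcomm : ∀ s : ↥(Cfsg.Omega F₀ ⇑(Classical.oddQuadForm m F₀)),
      (p.g : Matrix (Unit ⊕ (Fin m ⊕ Fin m)) (Unit ⊕ (Fin m ⊕ Fin m)) F) *
        ((((s : ↥(Cfsg.isometryGroup F₀ ⇑(Classical.oddQuadForm m F₀))).1 : GL (Unit ⊕ (Fin m ⊕ Fin m)) F₀) : Matrix (Unit ⊕ (Fin m ⊕ Fin m)) (Unit ⊕ (Fin m ⊕ Fin m)) F₀).map j).map τ
        * ((p.g⁻¹ : GL (Unit ⊕ (Fin m ⊕ Fin m)) F) : Matrix (Unit ⊕ (Fin m ⊕ Fin m)) (Unit ⊕ (Fin m ⊕ Fin m)) F)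
        = (((s : ↥(Cfsg.isometryGroup F₀ ⇑(Classical.oddQuadForm m F₀))).1 : GL (Unit ⊕ (Fin m ⊕ Fin m)) F₀) : Matrix (Unit ⊕ (Fin m ⊕ Fin m)) (Unit ⊕ (Fin m ⊕ Fin m)) F₀).map j := by
    intro s
    have h := hfix s
    rw [hp, SPair.aut_proj] at h
    have h' := congrArg (fun u : ↥(Cfsg.Omega F ⇑(Q)) =>
      (((u : ↥(Cfsg.isometryGroup F ⇑(Q))).1 : GL (Unit ⊕ (Fin m ⊕ Fin m)) F) : Matrix (Unit ⊕ (Fin m ⊕ Fin m)) (Unit ⊕ (Fin m ⊕ Fin m)) F)) (proj_injective_odd h2 hm h)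
    rw [SPair.coe_omegaAut, coe_omegaLift] at h'
    exact h'
  -- the prime field gives that `p.g` is a scalar
  let j0 : ZMod r →+* F₀ := ZMod.castHom dvd_rfl F₀
  have hQ0 : IsRestriction j0 (Classical.oddQuadForm m F₀) (Classical.oddQuadForm m (ZMod r)) :=
    isRestriction_odd j0
  obtain ⟨c, hc⟩ := scalar_of_commute_prime hr2 (j.comp j0)
    (nondeg_of_setting (setting_odd (F := ZMod r) (fun h => hr2 ((Nat.prime_dvd_prime_iff_eq
      (Fact.out : r.Prime) Nat.prime_two).1 ((ZMod.natCast_eq_zero_iff 2 r).1 (by exact_mod_cast h)))) hm))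
    (by simp; omega) (odd_frame3 hm) (p.g : Matrix (Unit ⊕ (Fin m ⊕ Fin m)) (Unit ⊕ (Fin m ⊕ Fin m)) F) (fun s hs => by
      have h := hcomm (omegaLift hQ0 ⟨s, hs⟩)
      rw [coe_omegaLift] at h
      have hj : (((s.1 : Matrix (Unit ⊕ (Fin m ⊕ Fin m)) (Unit ⊕ (Fin m ⊕ Fin m)) (ZMod r)).map j0).map j).map τ = (s.1 : Matrix (Unit ⊕ (Fin m ⊕ Fin m)) (Unit ⊕ (Fin m ⊕ Fin m)) (ZMod r)).map (j.comp j0) := by
        ext i k
        exact RingHom.congr_fun (RingHom.ext_zmod ((τ.toRingHom.comp j).comp j0) (j.comp j0)) _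
      rw [hj] at h
      have h' := congrArg (fun A => A * (p.g : Matrix (Unit ⊕ (Fin m ⊕ Fin m)) (Unit ⊕ (Fin m ⊕ Fin m)) F)) h
      simp only [Matrix.mul_assoc, Units.inv_mul, Matrix.mul_one] at h'
      rw [h']
      rfl)
  -- so `τ` fixes every `Ω` element over `F₀`, hence `F₀`
  have hτs : ∀ s : ↥(Cfsg.Omega F₀ ⇑(Classical.oddQuadForm m F₀)),
      ((((s : ↥(Cfsg.isometryGroup F₀ ⇑(Classical.oddQuadForm m F₀))).1 : GL (Unit ⊕ (Fin m ⊕ Fin m)) F₀) : Matrix (Unit ⊕ (Fin m ⊕ Fin m)) (Unit ⊕ (Fin m ⊕ Fin m)) F₀).map j).map τ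
        = (((s : ↥(Cfsg.isometryGroup F₀ ⇑(Classical.oddQuadForm m F₀))).1 : GL (Unit ⊕ (Fin m ⊕ Fin m)) F₀) : Matrix (Unit ⊕ (Fin m ⊕ Fin m)) (Unit ⊕ (Fin m ⊕ Fin m)) F₀).map j := fun s => by
    have h := hcomm s
    rw [hc, Matrix.scalar_commute _ (fun _ => Commute.all _ _), Matrix.mul_assoc, ← hc, Units.mul_inv,
      Matrix.mul_one] at h
    exact h
  have hτF : ∀ y : F, σ y = y → τ y = y := fun y hy => by
    have hf := odd_frame3 (F := F₀) hm
    set y₀ : F₀ := ⟨y, hy⟩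
    set u : Unit ⊕ (Fin m ⊕ Fin m) → F₀ := Pi.single (Sum.inr (Sum.inl (Fin.castLE hm 0))) 1
    set v : Unit ⊕ (Fin m ⊕ Fin m) → F₀ := Pi.single (Sum.inr (Sum.inl (Fin.castLE hm 1))) 1
    have hu : Classical.oddQuadForm m F₀ u = 0 := hf.qe 0
    have hv : Classical.oddQuadForm m F₀ v = 0 := hf.qe 1
    have huv : polar ⇑(Classical.oddQuadForm m F₀) u v = 0 := hf.ee 0 1
    set S1 := Orth.siegel (Classical.oddQuadForm m F₀) u v hu hv huv y₀
    have hS : S1 ∈ Cfsg.Omega F₀ ⇑(Classical.oddQuadForm m F₀) := by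
      have h20 : (2 : F₀) ≠ 0 := fun e => h2 (by rw [← map_ofNat j 2, e, map_zero])
      have hodd' : ∀ χ : ↥(Cfsg.isometryGroup F₀ ⇑(Classical.oddQuadForm m F₀)) →* ℤˣ, χ S1 = 1 := by
        intro χ
        have hhalf : S1 = Orth.siegel (Classical.oddQuadForm m F₀) u v hu hv huv (y₀ / 2) *
            Orth.siegel (Classical.oddQuadForm m F₀) u v hu hv huv (y₀ / 2) :=
          by
            rw [Orth.siegel_mul hu hv huv, show y₀ / 2 + y₀ / 2 = y₀ from by rw [← add_div, ← two_mul, mul_div_cancel_left₀ _ h20]]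
        rw [hhalf, map_mul, Int.units_mul_self]
      exact (Orth.mem_omega_iff h20 (nondeg_of_setting (setting_odd h20 hm)) (by simp; omega) _).2
        ⟨hodd' _, hodd' _⟩
    have h := congrFun (congrFun (hτs ⟨S1, hS⟩) (Sum.inr (Sum.inl (Fin.castLE hm 1))))
      (Sum.inr (Sum.inr (Fin.castLE hm 0)))
    simp only [Matrix.map_apply] at h
    have hent : (S1.1 : Matrix (Unit ⊕ (Fin m ⊕ Fin m)) (Unit ⊕ (Fin m ⊕ Fin m)) F₀) (Sum.inr (Sum.inl (Fin.castLE hm 1))) (Sum.inr (Sum.inr (Fin.castLE hm 0)))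
        = y₀ := by
      have h1 : Orth.app S1 (Pi.single (Sum.inr (Sum.inr (Fin.castLE hm 0))) 1)
          (Sum.inr (Sum.inl (Fin.castLE hm 1))) = y₀ := by
        rw [Orth.app_siegel]
        rw [show polar ⇑(Classical.oddQuadForm m F₀) u (Pi.single (Sum.inr (Sum.inr (Fin.castLE hm 0))) 1) = 1
            from by simpa using hf.ef 0 0,
          show polar ⇑(Classical.oddQuadForm m F₀) v (Pi.single (Sum.inr (Sum.inr (Fin.castLE hm 0))) 1) = 0
            from by simpa using hf.ef 1 0]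
        simp [v]
      simpa [Orth.app, mulVec_single] using h1
    rw [hent] at h
    exact h
  have hne : c ≠ 0 := fun h0 => GeneralLinearGroup.det_ne_zero p.g (by
    rw [hc, h0, map_zero, det_zero])
  have hpp : p = SPair.simHom (SPair.scalarSim (Units.mk0 c hne)) * fieldPair τ (sigmaForm_odd τ) := by
    refine SPair.ext (Units.ext ?_) (one_mul τ).symm
    show (p.g : Matrix (Unit ⊕ (Fin m ⊕ Fin m)) (Unit ⊕ (Fin m ⊕ Fin m)) F) = ((GeneralLinearGroup.scalar _ (Units.mk0 c hne) * gmap 1 1 : GL (Unit ⊕ (Fin m ⊕ Fin m)) F) : Matrix (Unit ⊕ (Fin m ⊕ Fin m)) (Unit ⊕ (Fin m ⊕ Fin m)) F)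
    rw [map_one, mul_one, GeneralLinearGroup.coe_scalar, hc]
    rfl
  have ha : a = fieldAut τ (sigmaForm_odd τ) := by
    rw [hp, hpp, SPair.aut_mul, SPair.aut_simHom_scalarSim, one_mul]
    rfl
  rw [ha, ← orderOf_dvd_iff_pow_eq_one, orderOf_fieldAut S]
  exact orderOf_dvd_of_pow_eq_one (pow_orderOf_of_fix hτF)

/-- the criterion at a standard field automorphism -/
theorem core_fieldAut_odd_iff (hodd : Odd (Fintype.card F)) (hm : 3 ≤ m) {p : ℕ} (hp : p.Prime)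
    (σ : F ≃+* F) (hσ : orderOf σ = p) (A : Subgroup (MulAut (Cfsg.POmega F ⇑(Q))))
    (hinn : ∀ k, MulAut.conj k ∈ A) :
    Cfsg.pPrimeCore p ↥(A ⊓ Subgroup.centralizer {fieldAut σ (sigmaForm_odd (m := m) σ)}) ≠ ⊥ ↔
      Nat.Coprime p (Nat.card ↥(MonoidHom.eqLocus (fieldAut σ (sigmaForm_odd (m := m) σ)).toMonoidHom
        (MonoidHom.id (Cfsg.POmega F ⇑(Q))))) := by
  classical
  have h2 : (2 : F) ≠ 0 := Classical.two_ne_zero_of_odd_card hodd
  haveI : Fintype ↥(fixedField σ) := Fintype.ofFinite _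
  set F₀ := ↥(fixedField σ)
  set j : F₀ →+* F := (fixedField σ).subtype with hjdef
  have hj : IsFixedField σ j := fun x => ⟨fun hx => ⟨⟨x, hx⟩, rfl⟩, by rintro ⟨y, rfl⟩; exact y.2⟩
  have hQ : IsRestriction j (Q) (Classical.oddQuadForm m F₀) := isRestriction_odd j
  have h20 : (2 : F₀) ≠ 0 := fun e => h2 (by rw [← map_ofNat j 2, e, map_zero])
  have hodd0 : Odd (Fintype.card F₀) := by
    rcases Nat.even_or_odd (Fintype.card F₀) with he | ho
    · exfalso
      refine h20 ?_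
      have h' : ringChar F₀ = 2 := FiniteField.even_card_iff_char_two.2 (Nat.even_iff.1 he)
      have := (ringChar.spec F₀ 2).2 (by rw [h'])
      exact_mod_cast this
    · exact ho
  set φ := fieldAut σ (sigmaForm_odd (m := m) σ) with hφ
  set ψ : ↥(Cfsg.Omega F₀ ⇑(Classical.oddQuadForm m F₀)) →* Cfsg.POmega F ⇑(Q) :=
    (POmegaAut.proj ⇑(Q)).comp (omegaLift hQ) with hψ
  have hψi : Function.Injective ψ := (proj_injective_odd h2 hm).comp (omegaLift_injective hQ)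
  have hinj := LocalBalance.conj_injective_of_center (pomega_center_eq_bot (F := F) h2 hm)
  have hψfix : ∀ s, φ (ψ s) = ψ s := fun s => by
    show POmegaAut.proj ⇑(Q) _ = POmegaAut.proj ⇑(Q) _
    refine congrArg _ (Subtype.ext (Subtype.ext (Units.ext ?_)))
    refine ((fieldPair σ (sigmaForm_odd (m := m) σ)).coe_omegaAut _).trans ?_
    rw [coe_omegaLift]
    ext i k
    simp [fieldPair, hj.apply]
  obtain ⟨t2, ht2⟩ := exists_omega_involution (F := F₀) h20 hm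
  have ht2' : ψ t2 ≠ 1 := fun h => by
    rw [hψi (h.trans (map_one ψ).symm), orderOf_one] at ht2
    exact absurd ht2 (by decide)
  constructor
  · intro hne
    rw [Nat.Prime.coprime_iff_not_dvd hp]
    intro hdvd
    apply hne
    have hlift : ∀ t : ↥(Cfsg.Omega F ⇑(Q)), φ (POmegaAut.proj ⇑(Q) t) = POmegaAut.proj ⇑(Q) t → gmap σ (t.1.1) = t.1.1 := by
      intro t ht
      have h' := congrArg (fun u : ↥(Cfsg.Omega F ⇑(Q)) =>
        (((u : ↥(Cfsg.isometryGroup F ⇑(Q))).1 : GL (Unit ⊕ (Fin m ⊕ Fin m)) F) : Matrix (Unit ⊕ (Fin m ⊕ Fin m)) (Unit ⊕ (Fin m ⊕ Fin m)) F))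
        (proj_injective_odd h2 hm ((SPair.aut_proj _ t).symm.trans ht))
      rw [SPair.coe_omegaAut] at h'
      refine Units.ext ?_
      simpa [fieldPair] using h'
    have h1v : ∃ v : Unit ⊕ (Fin m ⊕ Fin m) → F₀, Classical.oddQuadForm m F₀ v = 1 := by
      obtain ⟨e, f, hef⟩ := (setting_odd (F := F₀) h20 hm).rank.exists_pair
      exact ⟨e + f, by rw [QuadraticMap.map_add (⇑(Classical.oddQuadForm m F₀)), hef.qe, hef.qf, hef.ef]; ring⟩
    have hdvd0 : p ∣ Nat.card ↥(Cfsg.Omega F₀ ⇑(Classical.oddQuadForm m F₀)) := by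
      rcases hp.eq_two_or_odd' with rfl | hpo
      · exact ht2 ▸ orderOf_dvd_natCard t2
      haveI : Fact p.Prime := ⟨hp⟩
      obtain ⟨z, hz⟩ := exists_prime_orderOf_dvd_card' p hdvd
      obtain ⟨t, ht⟩ := proj_surjective ⇑(Q) (z : Cfsg.POmega F ⇑(Q))
      obtain ⟨t₀, ht₀⟩ := exists_liftIso_of_fixed hj hQ h1v t.1 (hlift t (by rw [ht]; exact z.2))
      have hto : orderOf t₀ = p := by
        rw [← orderOf_injective (liftIso hQ) (liftIso_injective hQ), ht₀, Subgroup.orderOf_coe,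
          ← orderOf_injective (POmegaAut.proj ⇑(Q)) (proj_injective_odd h2 hm), ht, Subgroup.orderOf_coe, hz]
      have hoddc : ∀ χ : ↥(Cfsg.isometryGroup F₀ ⇑(Classical.oddQuadForm m F₀)) →* ℤˣ, χ t₀ = 1 := by
        intro χ
        have h := congrArg χ (pow_orderOf_eq_one t₀)
        rw [map_pow, map_one, hto] at h
        rcases Int.units_eq_one_or (χ t₀) with h1 | h1
        · exact h1
        · rw [h1, hpo.neg_one_pow] at h
          exact absurd h (by decide)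
      have hmem : t₀ ∈ Cfsg.Omega F₀ ⇑(Classical.oddQuadForm m F₀) :=
        (Orth.mem_omega_iff h20 (nondeg_of_setting (setting_odd h20 hm)) (by simp; omega) _).2
          ⟨hoddc _, hoddc _⟩
      rw [← hto, ← Subgroup.orderOf_mk t₀ hmem]
      exact orderOf_dvd_natCard _
    refine LocalBalance.core_eq_bot_of_subgroup hinj A hinn φ ψ.range ?_ ?_ ?_ ?_
    · rintro _ ⟨s, rfl⟩; exact hψfix s
    · rintro k hk _ ⟨s, rfl⟩
      obtain ⟨t, rfl⟩ := POmegaAut.proj_surjective ⇑(Q) k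
      obtain ⟨t₀, ht₀⟩ := exists_liftIso_of_fixed hj hQ h1v t.1 (hlift t hk)
      refine ⟨⟨t₀ * s.1 * t₀⁻¹, (inferInstance : (commutator _).Normal).conj_mem _ s.2 t₀⟩, ?_⟩
      show POmegaAut.proj ⇑(Q) _ = POmegaAut.proj ⇑(Q) t * POmegaAut.proj ⇑(Q) (omegaLift hQ s) * (POmegaAut.proj ⇑(Q) t)⁻¹
      rw [← map_inv, ← map_mul, ← map_mul]
      refine congrArg _ (Subtype.ext ?_)
      show liftIso hQ (t₀ * s.1 * t₀⁻¹) = t.1 * liftIso hQ s.1 * t.1⁻¹
      rw [map_mul, map_mul, map_inv, ht₀]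
    · intro M hM hco
      haveI := isSimpleGroup_omega_odd (F := F₀) hodd0 hm
      haveI : IsSimpleGroup ↥ψ.range := MulEquiv.isSimpleGroup (MonoidHom.ofInjective hψi).symm
      refine (IsSimpleGroup.eq_bot_or_eq_top_of_normal M hM).resolve_right fun h => ?_
      rw [h, Subgroup.card_top, ← Nat.card_congr (MonoidHom.ofInjective hψi).toEquiv] at hco
      exact hp.ne_one (Nat.eq_one_of_dvd_coprimes hco hdvd0 dvd_rfl)
    · intro a _ hco hfix
      have h := pow_eq_one_of_fix hodd hm a fun s => hfix _ ⟨s, rfl⟩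
      rw [hσ] at h
      exact orderOf_eq_one_iff.1 (Nat.eq_one_of_dvd_coprimes hco dvd_rfl (orderOf_dvd_of_pow_eq_one h))
  · intro hco
    exact LocalBalance.core_ne_bot_of_coprime hinj A hinn φ ⟨ψ t2, ht2', hψfix t2⟩ hco

/-- the criterion -/
theorem local_balance_odd {r : ℕ} [CharP F r] (hodd : Odd (Fintype.card F)) (hm : 3 ≤ m)
    (A : Subgroup (MulAut (Cfsg.POmega F ⇑(Q)))) (hinn : ∀ k, MulAut.conj k ∈ A) {p : ℕ} [Fact p.Prime]
    (x : MulAut (Cfsg.POmega F ⇑(Q))) (hord : orderOf x = p)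
    (hnot : ¬ Cfsg.IsSimilarityInducedAutPOmega ⇑(Q) x) :
    Cfsg.pPrimeCore p ↥(A ⊓ Subgroup.centralizer {x}) ≠ ⊥ ↔ (Cfsg.IsFieldAutClassPOmega ⇑(Q) x ∧
      Nat.Coprime p (Nat.card ↥(MonoidHom.eqLocus x.toMonoidHom (MonoidHom.id (Cfsg.POmega F ⇑(Q)))))) := by
  classical
  have hp : p.Prime := Fact.out
  have h2 : (2 : F) ≠ 0 := Classical.two_ne_zero_of_odd_card hodd
  have S := setting_odd (F := F) h2 hm
  obtain ⟨q, hq⟩ := S.exists_induced x
  obtain ⟨g, hg⟩ := pair_eq q.sig (sigmaForm_odd q.sig) q rfl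
  set σ := q.sig
  have hx : x = simAut g * fieldAut σ (sigmaForm_odd σ) := by rw [hq, hg, SPair.aut_mul]; rfl
  have hσp : σ ^ p = 1 := by
    have h1 : (q ^ p).aut = 1 := by
      show SPair.autHom (q ^ p) = 1
      rw [map_pow, show SPair.autHom q = x from hq.symm, ← hord, pow_orderOf_eq_one]
    obtain ⟨c, hc⟩ := (SPair.aut_eq_one_iff S _).1 h1
    have := congrArg SPair.sigHom hc
    rw [map_pow] at this
    exact this
  have hσ1 : σ ≠ 1 := fun h => hnot ⟨g.1, g.2, (isSimilarityInduced_iff x g).2 (by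
    rw [hx]
    have : fieldAut σ (sigmaForm_odd (m := m) σ) = 1 := orderOf_eq_one_iff.1 (by
      rw [orderOf_fieldAut S, h, orderOf_one])
    rw [this, mul_one])⟩
  have hσ : orderOf σ = p := orderOf_eq_prime hσp hσ1
  haveI : Fintype ↥(fixedField σ) := Fintype.ofFinite _
  obtain ⟨j, hj⟩ := exists_isFixedField σ ↥(fixedField σ) (Nat.card_eq_fintype_card).symm
  have h20 : (2 : ↥(fixedField σ)) ≠ 0 := fun e => h2 (by rw [← map_ofNat j 2, e, map_zero])
  obtain ⟨k, hk⟩ := exists_conj_of_pow S (sigmaForm_odd σ) hj (isRestriction_odd j)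
    (hasDescent_odd (setting_odd h20 hm) j) g (by rw [hσ, ← hx, ← hord, pow_orderOf_eq_one])
  rw [← hx] at hk
  have hfield : Cfsg.IsFieldAutClassPOmega ⇑(Q) x := ⟨(simAut k)⁻¹, fieldAut σ (sigmaForm_odd σ), σ, hσ1,
    (isFieldAutOf_iff σ (sigmaForm_odd σ) _).2 rfl, by rw [hk]; group⟩
  rw [and_iff_right hfield, hk, LocalBalance.natCard_fixed_conj, ne_eq, LocalBalance.core_conj]
  refine core_fieldAut_odd_iff hodd hm hp σ hσ _ fun y => ?_
  show simAut k * MulAut.conj y * (simAut k)⁻¹ ∈ A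
  rw [LocalBalance.mul_conj_inv]
  exact hinn _

/-- the criterion for any presentation of the form -/
theorem local_balance_odd_of_eq {r : ℕ} [CharP F r] (hodd : Odd (Fintype.card F)) (hm : 3 ≤ m)
    (φ : (Unit ⊕ (Fin m ⊕ Fin m) → F) → F) (hφ : φ = ⇑(Q))
    (A : Subgroup (MulAut (Cfsg.POmega F φ))) (hinn : ∀ k, MulAut.conj k ∈ A) {p : ℕ} [Fact p.Prime]
    (x : MulAut (Cfsg.POmega F φ)) (hord : orderOf x = p) (hnot : ¬ Cfsg.IsSimilarityInducedAutPOmega φ x) :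
    Cfsg.pPrimeCore p ↥(A ⊓ Subgroup.centralizer {x}) ≠ ⊥ ↔ (Cfsg.IsFieldAutClassPOmega φ x ∧
      Nat.Coprime p (Nat.card ↥(MonoidHom.eqLocus x.toMonoidHom (MonoidHom.id (Cfsg.POmega F φ))))) := by
  subst hφ
  exact local_balance_odd (r := r) hodd hm A hinn x hord hnot

end Cfsg.Agent.Lib.POmegaBalance
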