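import Mathlib

/-!
# Odd normal subgroups of orthogonal groups

An odd order group of isometries of a nondegenerate symmetric form of dimension at least three that is
normalised by all reflections is trivial; a semilinear map stabilising all nondegenerate-adapted planes is
a scalar.
-/

set_option autoImplicit false

namespace Cfsg.Agent.Lib.POmegaBalance.OddCore

open Module

universe u v

variable {K : Type u} [Field K] {W : Type v} [AddCommGroup W] [Module K W]

/-- a nondegenerate symmetric bilinear form -/
structure SymmNondeg (B : LinearMap.BilinForm K W) : Prop where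
  symm : ∀ x y, B x y = B y x
  nondeg : ∀ x, (∀ y, B x y = 0) → x = 0

variable {B : LinearMap.BilinForm K W}

/-- the reflection in an anisotropic vector -/
noncomputable def bRefl (B : LinearMap.BilinForm K W) (v : W) (hv : B v v ≠ 0) : W ≃ₗ[K] W :=
  Module.reflection (x := v) (f := (2 / B v v) • B v) (by
    rw [LinearMap.smul_apply, smul_eq_mul, div_mul_cancel₀ _ hv])

theorem bRefl_apply (v : W) (hv : B v v ≠ 0) (x : W) :
    bRefl B v hv x = x - (2 / B v v * B v x) • v := by
  rw [bRefl, Module.reflection_apply]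
  rfl

theorem bRefl_bRefl (v : W) (hv : B v v ≠ 0) (x : W) : bRefl B v hv (bRefl B v hv x) = x :=
  Module.involutive_reflection _ x

theorem bRefl_mul_self (v : W) (hv : B v v ≠ 0) : bRefl B v hv * bRefl B v hv = 1 :=
  LinearEquiv.ext (bRefl_bRefl v hv)

theorem bRefl_iso (h : SymmNondeg B) (v : W) (hv : B v v ≠ 0) (x y : W) :
    B (bRefl B v hv x) (bRefl B v hv y) = B x y := by
  simp only [bRefl_apply, map_sub, map_smul, LinearMap.sub_apply, LinearMap.smul_apply, smul_eq_mul]
  rw [h.symm x v]
  field_simp
  ring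

theorem bRefl_of_orth (v : W) (hv : B v v ≠ 0) {x : W} (hx : B v x = 0) : bRefl B v hv x = x := by
  rw [bRefl_apply, hx, mul_zero, zero_smul, sub_zero]

theorem bRefl_self (v : W) (hv : B v v ≠ 0) : bRefl B v hv v = -v := by
  rw [bRefl_apply, div_mul_cancel₀ _ hv, two_smul]
  abel

/-- a vector of nonzero value exists -/
theorem exists_aniso (h2 : (2 : K) ≠ 0) (h : SymmNondeg B) (hne : ∃ x : W, x ≠ 0) : ∃ v, B v v ≠ 0 := by
  obtain ⟨x, hx⟩ := hne
  by_contra hall
  push Not at hall
  refine hx (h.nondeg x fun y => ?_)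
  have := hall (x + y)
  simp only [map_add, LinearMap.add_apply, hall x, hall y, h.symm y x] at this
  exact (mul_eq_zero.1 (show (2 : K) * B x y = 0 by linear_combination this)).resolve_left h2

/-- the form on the orthogonal complement of `v` -/
noncomputable def perpForm (B : LinearMap.BilinForm K W) (v : W) :
    LinearMap.BilinForm K ↥(LinearMap.ker (B v)) :=
  B.compl₁₂ (LinearMap.ker (B v)).subtype (LinearMap.ker (B v)).subtype

@[simp] theorem perpForm_apply (v : W) (x y : ↥(LinearMap.ker (B v))) :
    perpForm B v x y = B (x : W) (y : W) := rfl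

theorem mem_perp {v x : W} : x ∈ LinearMap.ker (B v) ↔ B v x = 0 := LinearMap.mem_ker

theorem decomp (v : W) (hv : B v v ≠ 0) (x : W) :
    ∃ (a : K) (y : W), B v y = 0 ∧ x = a • v + y :=
  ⟨B v x / B v v, x - (B v x / B v v) • v, by
    rw [map_sub, map_smul, smul_eq_mul, div_mul_cancel₀ _ hv, sub_self], by abel⟩

theorem symmNondeg_perp (h : SymmNondeg B) (v : W) (hv : B v v ≠ 0) : SymmNondeg (perpForm B v) := by
  refine ⟨fun x y => h.symm _ _, fun x hx => Subtype.ext (h.nondeg (x : W) fun z => ?_)⟩
  obtain ⟨a, y, hy, rfl⟩ := decomp v hv z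
  have h1 : B (x : W) y = 0 := hx ⟨y, hy⟩
  rw [map_add, map_smul, h.symm (x : W) v, mem_perp.1 x.2, h1, smul_zero, add_zero]

theorem finrank_perp [FiniteDimensional K W] (v : W) (hv : B v v ≠ 0) :
    finrank K ↥(LinearMap.ker (B v)) + 1 = finrank K W :=
  Module.Dual.finrank_ker_add_one_of_ne_zero fun h0 => hv (by rw [h0]; rfl)

/-- in dimension at least two every value is taken -/
theorem exists_value [Finite K] [FiniteDimensional K W] (h2 : (2 : K) ≠ 0) (h : SymmNondeg B)
    (hd : 2 ≤ finrank K W) (c : K) (hc : c ≠ 0) : ∃ z, B z z = c := by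
  classical
  cases nonempty_fintype K
  haveI : Nontrivial W := Module.nontrivial_of_finrank_pos (R := K) (by omega)
  obtain ⟨v, hv⟩ := exists_aniso h2 h (exists_ne 0)
  have hd' := finrank_perp (B := B) v hv
  haveI : Nontrivial ↥(LinearMap.ker (B v)) := Module.nontrivial_of_finrank_pos (R := K) (by omega)
  obtain ⟨⟨w, hw⟩, hww⟩ := exists_aniso h2 (symmNondeg_perp h v hv) (exists_ne 0)
  rw [mem_perp] at hw
  rw [perpForm_apply] at hww
  have hchar : ringChar K ≠ 2 := fun e => h2 (by
    haveI : CharP K 2 := e ▸ ringChar.charP K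
    exact CharTwo.two_eq_zero)
  obtain ⟨a, b, hab⟩ := FiniteField.exists_root_sum_quadratic
    (f := Polynomial.C (B v v) * Polynomial.X ^ 2)
    (g := Polynomial.C (B w w) * Polynomial.X ^ 2 + Polynomial.C 0 * Polynomial.X + Polynomial.C (-c))
    (Polynomial.degree_C_mul_X_pow 2 hv) (Polynomial.degree_quadratic hww)
    (FiniteField.odd_card_of_char_ne_two hchar)
  refine ⟨a • v + b • w, ?_⟩
  simp only [map_add, map_smul, LinearMap.add_apply, LinearMap.smul_apply, smul_eq_mul, h.symm w v, hw]
  simp only [Polynomial.eval_mul, Polynomial.eval_C, Polynomial.eval_pow, Polynomial.eval_X,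
    Polynomial.eval_add] at hab
  linear_combination hab

/-- an isometry of odd order fixing a line fixes its vectors -/
theorem fix_of_line (h2 : (2 : K) ≠ 0) {m : W ≃ₗ[K] W} (hiso : ∀ x y, B (m x) (m y) = B x y) {v : W}
    (hv : B v v ≠ 0) (hm : ∃ c : K, m v = c • v) {k : ℕ} (hk : Odd k) (hmk : m ^ k = 1) : m v = v := by
  obtain ⟨c, hc⟩ := hm
  have hsq : c * c = 1 := by
    have := hiso v v
    simp only [hc, map_smul, LinearMap.smul_apply, smul_eq_mul] at this
    exact mul_right_cancel₀ hv (by rw [one_mul]; linear_combination this)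
  rcases mul_self_eq_one_iff.1 hsq with rfl | rfl
  · rw [hc, one_smul]
  · exfalso
    have key : ∀ i : ℕ, (m ^ i) v = (-1 : K) ^ i • v := fun i => by
      induction i with
      | zero => simp
      | succ i ih =>
        rw [pow_succ, LinearEquiv.mul_apply, hc, map_smul, ih, smul_smul, pow_succ', neg_one_mul]
    have h1 := key k
    rw [hmk, hk.neg_one_pow, neg_one_smul] at h1
    change v = -v at h1
    have h3 : (2 : K) • v = 0 := by rw [two_smul]; nth_rewrite 2 [h1]; exact add_neg_cancel v
    exact hv (by rw [(smul_eq_zero.1 h3).resolve_left h2, map_zero])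

/-- base case: dimension three -/
theorem eq_bot_of_finrank_three [Finite K] [FiniteDimensional K W] (h2 : (2 : K) ≠ 0) (h : SymmNondeg B)
    (hd : finrank K W = 3) (M : Subgroup (W ≃ₗ[K] W)) (hodd : Odd (Nat.card ↥M))
    (hiso : ∀ m ∈ M, ∀ x y, B (m x) (m y) = B x y)
    (hnorm : ∀ v hv, ∀ m ∈ M, bRefl B v hv * m * bRefl B v hv ∈ M) : M = ⊥ := by
  classical
  cases nonempty_fintype K
  haveI : Nontrivial W := Module.nontrivial_of_finrank_pos (R := K) (by omega)
  have hchar : ringChar K ≠ 2 := fun e => h2 (by
    haveI : CharP K 2 := e ▸ ringChar.charP K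
    exact CharTwo.two_eq_zero)
  -- an orthogonal basis
  obtain ⟨v₁, hv₁⟩ := exists_aniso h2 h (exists_ne 0)
  have hd₁ := finrank_perp (B := B) v₁ hv₁
  have hB₁ := symmNondeg_perp h v₁ hv₁
  -- a hyperbolic pair and an orthogonal vector
  obtain ⟨⟨x₁, hx₁⟩, hx₁v⟩ := exists_value h2 hB₁ (by omega) (-(B v₁ v₁)) (neg_ne_zero.2 hv₁)
  rw [mem_perp] at hx₁
  rw [perpForm_apply] at hx₁v
  set e := v₁ + x₁ with he
  set f := (2 * B v₁ v₁)⁻¹ • (v₁ - x₁) with hf
  have hee : B e e = 0 := by
    simp only [he, map_add, LinearMap.add_apply, h.symm x₁ v₁, hx₁, hx₁v]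
    simp
  have hff : B f f = 0 := by
    simp only [hf, map_sub, map_smul, LinearMap.sub_apply, LinearMap.smul_apply, smul_eq_mul,
      h.symm x₁ v₁, hx₁, hx₁v]
    ring
  have hef : B e f = 1 := by
    simp only [he, hf, map_add, map_sub, map_smul, LinearMap.add_apply, LinearMap.sub_apply,
      LinearMap.smul_apply, smul_eq_mul, h.symm x₁ v₁, hx₁, hx₁v]
    field_simp
    ring
  -- every singular vector lies on a frame
  have frame : ∀ u : W, u ≠ 0 → B u u = 0 → ∃ f z, B f f = 0 ∧ B u f = 1 ∧ B u z = 0 ∧ B f z = 0 ∧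
      B z z ≠ 0 ∧ ∀ x, ∃ a b c : K, x = a • u + b • f + c • z := by
    intro u hu huu
    obtain ⟨y, hy⟩ : ∃ y, B u y ≠ 0 := by
      by_contra hall; push Not at hall; exact hu (h.nondeg u hall)
    set y₁ := (B u y)⁻¹ • y with hy₁
    have huy : B u y₁ = 1 := by rw [hy₁, map_smul, smul_eq_mul, inv_mul_cancel₀ hy]
    set f := y₁ - (B y₁ y₁ / 2) • u with hf
    have huf : B u f = 1 := by rw [hf, map_sub, huy, map_smul, huu, smul_zero, sub_zero]
    have hff : B f f = 0 := by
      simp only [hf, map_sub, map_smul, LinearMap.sub_apply, LinearMap.smul_apply, smul_eq_mul,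
        h.symm y₁ u, huy, huu]
      field_simp
      ring
    set p := u + f with hp
    have hpp : B p p ≠ 0 := by
      simp only [hp, map_add, LinearMap.add_apply, huu, huf, h.symm f u, hff]
      simpa [one_add_one_eq_two] using h2
    have hdp := finrank_perp (B := B) p hpp
    set n := u - f with hn
    have hnp : B p n = 0 := by
      simp only [hp, hn, map_add, map_sub, LinearMap.add_apply, huu, huf, h.symm f u, hff]
      ring
    have hnn : B n n ≠ 0 := by
      simp only [hn, map_sub, LinearMap.sub_apply, huu, huf, h.symm f u, hff]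
      intro h0
      exact h2 (by linear_combination -h0)
    set n' : ↥(LinearMap.ker (B p)) := ⟨n, mem_perp.2 hnp⟩
    have hdn := finrank_perp (B := perpForm B p) n' hnn
    haveI : Nontrivial ↥(LinearMap.ker (perpForm B p n')) :=
      Module.nontrivial_of_finrank_pos (R := K) (by omega)
    obtain ⟨⟨⟨z, hz⟩, hzn⟩, hzz⟩ := exists_aniso h2
      (symmNondeg_perp (symmNondeg_perp h p hpp) n' hnn) (exists_ne 0)
    rw [mem_perp] at hz hzn
    rw [perpForm_apply, perpForm_apply] at hzz
    rw [perpForm_apply] at hzn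
    have huz : B u z = 0 := by
      have h3 : (2 : K) * B u z = 0 := by
        simp only [hp, hn, n', map_add, map_sub, LinearMap.add_apply, LinearMap.sub_apply] at hz hzn
        linear_combination hz + hzn
      exact (mul_eq_zero.1 h3).resolve_left h2
    have hfz : B f z = 0 := by
      simp only [hp, map_add, LinearMap.add_apply, huz, zero_add] at hz
      exact hz
    refine ⟨f, z, hff, huf, huz, hfz, hzz, fun x => ?_⟩
    have hli : LinearIndependent K ![u, f, z] := by
      rw [Fintype.linearIndependent_iff]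
      intro g hg
      simp only [Fin.sum_univ_three, Matrix.cons_val_zero, Matrix.cons_val_one, Matrix.cons_val_two,
        Matrix.head_cons, Matrix.tail_cons] at hg
      have e1 := congrArg (B f) hg
      have e2 := congrArg (B u) hg
      have e3 := congrArg (B z) hg
      simp only [map_add, map_smul, smul_eq_mul, map_zero, h.symm f u, huu, huf, hff, hfz, huz,
        h.symm z u, h.symm z f] at e1 e2 e3
      intro i
      fin_cases i
      · simpa using e1
      · simpa using e2
      · simpa [hzz] using e3
    have htop := hli.span_eq_top_of_card_eq_finrank (by rw [Fintype.card_fin, hd])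
    obtain ⟨g, hg⟩ := (Submodule.mem_span_range_iff_exists_fun K).1 (htop.ge (Submodule.mem_top (x := x)))
    exact ⟨g 0, g 1, g 2, by
      rw [← hg, Fin.sum_univ_three]
      simp⟩
  -- two orthogonal singular vectors are parallel
  have par : ∀ u x : W, u ≠ 0 → B u u = 0 → B x x = 0 → B u x = 0 → x ∈ K ∙ u := by
    intro u x hu huu hxx hux
    obtain ⟨f, z, hff, huf, huz, hfz, hzz, hspan⟩ := frame u hu huu
    obtain ⟨a, b, c, rfl⟩ := hspan x
    have hb : b = 0 := by
      simpa [huu, huf, huz] using hux
    subst hb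
    have hc : c = 0 := by
      simpa [huu, huz, h.symm z u, hzz] using hxx
    subst hc
    exact Submodule.mem_span_singleton.2 ⟨a, by simp⟩
  letI : MulAction (W ≃ₗ[K] W) (Submodule K W) :=
    { smul := fun m p => p.map (m : W →ₗ[K] W)
      one_smul := fun p => Submodule.map_id p
      mul_smul := fun m n p => Submodule.map_comp _ _ p }
  have hsmul : ∀ (m : ↥M) (x : W), m • (K ∙ x) = K ∙ ((m : W ≃ₗ[K] W) x) := fun m x => by
    show (K ∙ x).map ((m : W ≃ₗ[K] W) : W →ₗ[K] W) = _
    rw [Submodule.map_span, Set.image_singleton]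
    rfl
  -- every element of `M` fixes every singular line
  have hlines : ∀ u : W, u ≠ 0 → B u u = 0 → ∀ m ∈ M, m u ∈ K ∙ u := by
    intro u hu huu
    by_contra hne
    push Not at hne
    obtain ⟨m₀, hm₀, hm₀u⟩ := hne
    set x₁ := m₀ u with hx₁def
    have hx11 : B x₁ x₁ = 0 := by rw [hx₁def, hiso m₀ hm₀, huu]
    have hx1 : B u x₁ ≠ 0 := fun h0 => hm₀u (par u x₁ hu huu hx11 h0)
    set O : Set (Submodule K W) := MulAction.orbit ↥M (K ∙ u) with hO
    -- the orbit is the set of all singular lines
    have hall : ∀ y : W, y ≠ 0 → B y y = 0 → K ∙ y ∈ O := by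
      intro y hy hyy
      by_cases huy : B u y = 0
      · obtain ⟨a, rfl⟩ := Submodule.mem_span_singleton.1 (par u y hu huu hyy huy)
        have ha : a ≠ 0 := fun h0 => hy (by rw [h0, zero_smul])
        rw [Submodule.span_singleton_smul_eq (Ne.isUnit ha)]
        exact MulAction.mem_orbit_self _
      set y' := (B u x₁ / B u y) • y with hy'
      have hl : B u x₁ / B u y ≠ 0 := div_ne_zero hx1 huy
      have hline : (K ∙ y') = K ∙ y := Submodule.span_singleton_smul_eq (Ne.isUnit hl) y
      have hy'y' : B y' y' = 0 := by simp [hy', hyy]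
      have huy' : B u y' = B u x₁ := by rw [hy', map_smul, smul_eq_mul, div_mul_cancel₀ _ huy]
      rw [← hline]
      by_cases hxy : B x₁ y' = 0
      · have hx0 : x₁ ≠ 0 := fun h0 => hx1 (by rw [h0, map_zero])
        obtain ⟨a, ha⟩ := Submodule.mem_span_singleton.1 (par x₁ y' hx0 hx11 hy'y' hxy)
        have ha0 : a ≠ 0 := fun h0 => hx1 (by rw [← huy', ← ha, h0, zero_smul, map_zero])
        rw [← ha, Submodule.span_singleton_smul_eq (Ne.isUnit ha0)]
        exact ⟨⟨m₀, hm₀⟩, hsmul _ u⟩
      set w := x₁ - y' with hw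
      have hww : B w w = -2 * B x₁ y' := by
        simp only [hw, map_sub, LinearMap.sub_apply, hx11, hy'y', h.symm y' x₁]
        ring
      have hw0 : B w w ≠ 0 := by rw [hww]; exact mul_ne_zero (neg_ne_zero.2 h2) hxy
      have hru : bRefl B w hw0 u = u := bRefl_of_orth w hw0 (by
        rw [h.symm, hw, map_sub, huy', sub_self])
      have hrx : bRefl B w hw0 x₁ = y' := by
        have e1 : B w x₁ = -B x₁ y' := by
          simp only [hw, map_sub, LinearMap.sub_apply, hx11, h.symm y' x₁]; ring
        have e2 : 2 / B w w * B w x₁ = 1 := by rw [e1, hww]; field_simp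
        rw [bRefl_apply, e2, one_smul, hw]
        abel
      refine ⟨⟨_, hnorm w hw0 m₀ hm₀⟩, ?_⟩
      show (⟨_, hnorm w hw0 m₀ hm₀⟩ : ↥M) • (K ∙ u) = _
      rw [hsmul]
      show K ∙ (bRefl B w hw0 (m₀ (bRefl B w hw0 u))) = _
      rw [hru, hrx]
    have hOodd : Odd O.ncard := by
      rw [hO, ← MulAction.index_stabilizer]
      exact hodd.of_dvd_nat (Subgroup.index_dvd_card _)
    -- an involution without fixed points on singular lines
    obtain ⟨f, z, hff, huf, huz, hfz, hzz, hspan⟩ := frame u hu huu
    obtain ⟨ns, hns⟩ := FiniteField.exists_nonsquare hchar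
    have hns0 : ns ≠ 0 := fun h0 => hns (h0 ▸ IsSquare.zero)
    set c := B z z * ns / 2 with hc
    set v := u + c • f with hv
    have hvv : B v v = 2 * c := by
      simp only [hv, map_add, map_smul, LinearMap.add_apply, LinearMap.smul_apply, smul_eq_mul, huu, hff,
        huf, h.symm f u]
      ring
    have h2c : 2 * c = B z z * ns := by rw [hc]; field_simp
    have hv0 : B v v ≠ 0 := by rw [hvv, h2c]; exact mul_ne_zero hzz hns0
    have haniso : ∀ x, B v x = 0 → B x x = 0 → x = 0 := by
      intro x hvx hxx
      obtain ⟨a, b, d, rfl⟩ := hspan x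
      simp only [hv, map_add, map_smul, LinearMap.add_apply, LinearMap.smul_apply, smul_eq_mul, huu, hff,
        huf, huz, hfz, h.symm f u, h.symm z u, h.symm z f] at hvx hxx
      have hb : b = -(a * c) := by linear_combination hvx
      subst hb
      have e1 : B z z * (d ^ 2 - ns * a ^ 2) = 0 := by linear_combination hxx + a ^ 2 * h2c
      have e2 := (mul_eq_zero.1 e1).resolve_left hzz
      have ha : a = 0 := by
        by_contra ha
        exact hns ⟨d / a, by field_simp; linear_combination -e2⟩
      subst ha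
      have hd0 : d = 0 := by simpa using e2
      subst hd0
      simp
    set r := bRefl B v hv0 with hr
    have hrO : ∀ p ∈ O, p.map (r : W →ₗ[K] W) ∈ O := by
      rintro p ⟨m, rfl⟩
      show (m • (K ∙ u)).map _ ∈ O
      rw [hsmul, Submodule.map_span, Set.image_singleton]
      refine hall _ (fun h0 => hu ((m : W ≃ₗ[K] W).injective (r.injective ?_))) ?_
      · rw [map_zero, map_zero]; exact h0
      · show B (r _) (r _) = 0
        rw [hr, bRefl_iso h, hiso _ m.2, huu]
    have hrfix : ∀ p ∈ O, p.map (r : W →ₗ[K] W) ≠ p := by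
      rintro p ⟨m, rfl⟩ hp
      replace hp : (m • (K ∙ u)).map (r : W →ₗ[K] W) = m • (K ∙ u) := hp
      rw [hsmul] at hp
      set x := (m : W ≃ₗ[K] W) u with hx
      have hxx : B x x = 0 := by rw [hx, hiso _ m.2, huu]
      have hx0 : x ≠ 0 := fun h0 => hu ((m : W ≃ₗ[K] W).injective (h0.trans (map_zero _).symm))
      have hmem : r x ∈ K ∙ x :=
        hp ▸ Submodule.mem_map_of_mem (Submodule.mem_span_singleton_self x)
      obtain ⟨a, ha⟩ := Submodule.mem_span_singleton.1 hmem
      rw [hr, bRefl_apply] at ha
      set k := 2 / B v v * B v x with hk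
      have h4 : k • v = (1 - a) • x := by rw [sub_smul, one_smul, ha]; abel
      have h5 : k * k * B v v = 0 := by
        have := congrArg (fun y => B y y) h4
        simp only [map_smul, LinearMap.smul_apply, smul_eq_mul, hxx, mul_zero] at this
        linear_combination this
      have hk0 : k = 0 := by simpa [hv0] using h5
      exact hx0 (haniso x ((mul_eq_zero.1 hk0).resolve_left (div_ne_zero h2 hv0)) hxx)
    have heven : Even O.ncard := by
      haveI : Finite W := Module.finite_of_finite K
      haveI : Fintype ↥O := Fintype.ofFinite _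
      let φ : ↥O → ↥O := fun p => ⟨_, hrO p.1 p.2⟩
      have hφ : Function.Involutive φ := fun p => Subtype.ext (by
        show (p.1.map (r : W →ₗ[K] W)).map (r : W →ₗ[K] W) = p.1
        rw [← Submodule.map_comp, show ((r : W →ₗ[K] W) ∘ₗ (r : W →ₗ[K] W)) = LinearMap.id from
          LinearMap.ext fun x => bRefl_bRefl v hv0 x, Submodule.map_id])
      have h6 := Equiv.Perm.card_fixedPoints_modEq (f := φ) (p := 2) (n := 1) (funext fun a => hφ a)
      haveI : IsEmpty ↥φ.fixedPoints := ⟨fun p => hrfix _ p.1.2 (congrArg Subtype.val p.2)⟩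
      rw [Fintype.card_eq_nat_card, Fintype.card_eq_nat_card, Nat.card_of_isEmpty (α := ↥φ.fixedPoints),
        Nat.card_coe_set_eq] at h6
      exact (Nat.modEq_zero_iff_dvd.1 h6).elim fun w hw => ⟨w, by omega⟩
    exact Nat.not_odd_iff_even.2 heven hOodd
  -- so every element is a scalar
  refine (Subgroup.eq_bot_iff_forall _).2 fun m hm => ?_
  have he0 : e ≠ 0 := fun h0 => by simp [h0] at hef
  obtain ⟨f', z, hf'f', hef', hez, hf'z, hzz, hspan⟩ := frame e he0 hee
  have hf'0 : f' ≠ 0 := fun h0 => by simp [h0] at hef'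
  obtain ⟨a, ha⟩ := Submodule.mem_span_singleton.1 (hlines e he0 hee m hm)
  obtain ⟨b, hb⟩ := Submodule.mem_span_singleton.1 (hlines f' hf'0 hf'f' m hm)
  set t := e + (-(B z z) / 2) • f' + z with ht
  have htt : B t t = 0 := by
    simp only [ht, map_add, map_smul, LinearMap.add_apply, LinearMap.smul_apply, smul_eq_mul, hee, hf'f',
      hef', hez, hf'z, h.symm f' e, h.symm z e, h.symm z f']
    field_simp
    ring
  have ht0 : t ≠ 0 := fun h0 => by
    have := congrArg (B z) h0
    simp only [ht, map_add, map_smul, smul_eq_mul, h.symm z e, hez, h.symm z f', hf'z, map_zero] at this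
    exact hzz (by simpa using this)
  obtain ⟨d, hd'⟩ := Submodule.mem_span_singleton.1 (hlines t ht0 htt m hm)
  have hab : a * b = 1 := by
    have := hiso m hm e f'
    simp only [← ha, ← hb, map_smul, LinearMap.smul_apply, smul_eq_mul, hef'] at this
    linear_combination this
  have hmz : m z = d • t - a • e - (-(B z z) / 2 * b) • f' := by
    have := hd'.symm
    rw [ht, map_add, map_add, map_smul, ← ha, ← hb, smul_smul] at this
    rw [← ht] at this
    rw [← this]
    abel
  have hda : d = a := by
    have e1 := hiso m hm z f'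
    simp only [hmz, ← hb, ht, map_sub, map_add, map_smul, LinearMap.sub_apply, LinearMap.add_apply,
      LinearMap.smul_apply, smul_eq_mul, hef', hf'f', h.symm z f', hf'z] at e1
    have hb0 : b ≠ 0 := right_ne_zero_of_mul_eq_one hab
    have e2 : b * (d - a) = 0 := by linear_combination e1
    exact sub_eq_zero.1 ((mul_eq_zero.1 e2).resolve_left hb0)
  have hdb : d = b := by
    have e1 := hiso m hm z e
    simp only [hmz, ← ha, ht, map_sub, map_add, map_smul, LinearMap.sub_apply, LinearMap.add_apply,
      LinearMap.smul_apply, smul_eq_mul, hee, h.symm f' e, hef', h.symm z e, hez] at e1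
    have ha0 : a ≠ 0 := left_ne_zero_of_mul_eq_one hab
    have e2 : a * B z z * (d - b) = 0 := by
      field_simp at e1
      linear_combination -e1
    exact sub_eq_zero.1 ((mul_eq_zero.1 e2).resolve_left (mul_ne_zero ha0 hzz))
  subst hda
  subst hdb
  have hscal : ∀ x, m x = d • x := fun x => by
    obtain ⟨p, q, s, rfl⟩ := hspan x
    have hmz' : m z = d • z := by rw [hmz, ht]; module
    rw [map_add, map_add, map_smul, map_smul, map_smul, ← ha, ← hb, hmz']
    module
  have hpow : m ^ Nat.card ↥M = 1 := congrArg Subtype.val (pow_card_eq_one' (x := (⟨m, hm⟩ : ↥M)))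
  exact LinearEquiv.ext fun x => by
    rw [hscal x]
    rcases mul_self_eq_one_iff.1 hab with rfl | rfl
    · rw [one_smul]; rfl
    · have h7 := fix_of_line h2 (hiso m hm) hv₁ ⟨_, hscal v₁⟩ hodd hpow
      rw [hscal v₁, neg_one_smul] at h7
      have h8 : (2 : K) • v₁ = 0 := by rw [two_smul]; nth_rewrite 1 [← h7]; exact neg_add_cancel v₁
      exact absurd (by rw [(smul_eq_zero.1 h8).resolve_left h2, map_zero]) hv₁

/-- An odd order group of isometries normalised by all reflections is trivial. -/
theorem eq_bot_of_normalized [Finite K] (h2 : (2 : K) ≠ 0) :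
    ∀ (n : ℕ) {W : Type v} [AddCommGroup W] [Module K W] [FiniteDimensional K W]
      {B : LinearMap.BilinForm K W}, SymmNondeg B → finrank K W = n + 3 →
      ∀ M : Subgroup (W ≃ₗ[K] W), Odd (Nat.card ↥M) → (∀ m ∈ M, ∀ x y, B (m x) (m y) = B x y) →
      (∀ v hv, ∀ m ∈ M, bRefl B v hv * m * bRefl B v hv ∈ M) → M = ⊥ := by
  intro n
  induction n with
  | zero => intro W _ _ _ B h hd M hodd hiso hnorm; exact eq_bot_of_finrank_three h2 h hd M hodd hiso hnorm
  | succ n ih =>
    intro W _ _ _ B h hd M hodd hiso hnorm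
    classical
    haveI : Finite W := Module.finite_of_finite K
    haveI : Finite (W ≃ₗ[K] W) := Finite.of_injective (fun e : W ≃ₗ[K] W => (e : W → W)) DFunLike.coe_injective
    have hpow : ∀ m ∈ M, m ^ Nat.card ↥M = 1 := fun m hm =>
      congrArg Subtype.val (pow_card_eq_one' (x := (⟨m, hm⟩ : ↥M)))
    -- nothing in `M` commutes with a reflection
    have hfree : ∀ v (hv : B v v ≠ 0), ∀ m ∈ M, bRefl B v hv * m * bRefl B v hv = m → m = 1 := by
      intro v hv
      have key : ∀ m ∈ M, bRefl B v hv * m * bRefl B v hv = m → m v = v := by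
        intro m hm hc
        refine fix_of_line h2 (hiso m hm) hv ?_ hodd (hpow m hm)
        have h4 : bRefl B v hv (m v) = -(m v) := by
          have h5 := congrArg (fun g : W ≃ₗ[K] W => g (bRefl B v hv v)) hc
          simp only [LinearEquiv.mul_apply, bRefl_bRefl] at h5
          rw [h5, bRefl_self, map_neg]
        rw [bRefl_apply] at h4
        refine ⟨B v (m v) / B v v, ?_⟩
        have h6 : (2 : K) • m v = (2 / B v v * B v (m v)) • v := by
          rw [two_smul]; linear_combination (norm := abel) h4
        refine smul_right_injective W h2 ?_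
        show (2 : K) • m v = (2 : K) • _
        rw [h6, smul_smul]
        congr 1
        ring
      let M' : Subgroup (W ≃ₗ[K] W) :=
        { carrier := {m | m ∈ M ∧ bRefl B v hv * m * bRefl B v hv = m}
          one_mem' := ⟨M.one_mem, by rw [mul_one, bRefl_mul_self]⟩
          mul_mem' := fun {a b} ha hb => ⟨M.mul_mem ha.1 hb.1, by
            conv_rhs => rw [← ha.2, ← hb.2]
            rw [mul_assoc (bRefl B v hv * a), ← mul_assoc (bRefl B v hv) (bRefl B v hv * b),
              ← mul_assoc (bRefl B v hv) (bRefl B v hv), bRefl_mul_self, one_mul]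
            simp only [mul_assoc]⟩
          inv_mem' := fun {a} ha => ⟨M.inv_mem ha.1, by
            have h3 : (bRefl B v hv)⁻¹ = bRefl B v hv := inv_eq_of_mul_eq_one_right (bRefl_mul_self v hv)
            conv_rhs => rw [← ha.2, mul_inv_rev, mul_inv_rev, h3]
            simp only [mul_assoc]⟩ }
      set P := LinearMap.ker (B v)
      have hP : ∀ m : ↥M', ∀ x : W, x ∈ P → (m : W ≃ₗ[K] W) x ∈ P := fun m x hx => by
        rw [mem_perp] at hx ⊢
        rw [← key m.1 m.2.1 m.2.2, hiso m.1 m.2.1, hx]
      let res : ↥M' → (↥P ≃ₗ[K] ↥P) := fun m =>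
        LinearEquiv.ofLinear (((m : W ≃ₗ[K] W) : W →ₗ[K] W).restrict (hP m))
          (((m⁻¹ : ↥M') : W ≃ₗ[K] W).toLinearMap.restrict (hP m⁻¹))
          (LinearMap.ext fun x => Subtype.ext ((m : W ≃ₗ[K] W).apply_symm_apply (x : W)))
          (LinearMap.ext fun x => Subtype.ext ((m : W ≃ₗ[K] W).symm_apply_apply (x : W)))
      let ρ : ↥M' →* (↥P ≃ₗ[K] ↥P) := MonoidHom.mk' res fun a b => LinearEquiv.ext fun x => rfl
      have hρ : Function.Injective ρ := by
        rw [injective_iff_map_eq_one]
        intro m hm
        refine Subtype.ext (LinearEquiv.ext fun x => ?_)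
        obtain ⟨a, y, hy, rfl⟩ := decomp v hv x
        have h5 : (m : W ≃ₗ[K] W) y = y :=
          congrArg (fun e : ↥P ≃ₗ[K] ↥P => (e ⟨y, hy⟩ : W)) hm
        rw [map_add, map_smul, key m.1 m.2.1 m.2.2, h5]
        rfl
      have hbot : ρ.range = ⊥ := by
        refine ih (symmNondeg_perp h v hv) (by have := finrank_perp (B := B) v hv; omega) _ ?_ ?_ ?_
        · refine hodd.of_dvd_nat ((Subgroup.card_range_dvd ρ).trans ?_)
          exact Subgroup.card_dvd_of_le fun m hm => hm.1
        · rintro _ ⟨m, rfl⟩ x y
          exact hiso m.1 m.2.1 x y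
        · rintro w hw _ ⟨m, rfl⟩
          rw [perpForm_apply] at hw
          have hcomm : bRefl B (w : W) hw * bRefl B v hv = bRefl B v hv * bRefl B (w : W) hw := by
            refine LinearEquiv.ext fun x => ?_
            simp only [LinearEquiv.mul_apply, bRefl_apply, map_sub, map_smul, h.symm (w : W) v,
              mem_perp.1 w.2, smul_zero, sub_zero, mul_zero, zero_smul]
            abel
          refine ⟨⟨bRefl B (w : W) hw * m.1 * bRefl B (w : W) hw, hnorm _ hw _ m.2.1, ?_⟩, ?_⟩
          · calc bRefl B v hv * (bRefl B (w : W) hw * m.1 * bRefl B (w : W) hw) * bRefl B v hv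
                = (bRefl B v hv * bRefl B (w : W) hw) * m.1 * (bRefl B (w : W) hw * bRefl B v hv) := by
                  simp only [mul_assoc]
              _ = (bRefl B (w : W) hw * bRefl B v hv) * m.1 * (bRefl B v hv * bRefl B (w : W) hw) := by rw [hcomm]
              _ = bRefl B (w : W) hw * (bRefl B v hv * m.1 * bRefl B v hv) * bRefl B (w : W) hw := by
                  simp only [mul_assoc]
              _ = _ := by rw [m.2.2]
          · refine LinearEquiv.ext fun x => Subtype.ext ?_
            show (bRefl B (w : W) hw) (m.1 (bRefl B (w : W) hw x)) = _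
            simp only [LinearEquiv.mul_apply, bRefl_apply, Submodule.coe_sub, Submodule.coe_smul]
            rfl
      intro m hm hc
      have h6 : ρ ⟨m, hm, hc⟩ = 1 := Subgroup.mem_bot.1 (hbot ▸ ⟨_, rfl⟩)
      exact congrArg Subtype.val (hρ (h6.trans (map_one ρ).symm))
    -- so every reflection inverts `M`
    have hinv : ∀ v (hv : B v v ≠ 0), ∀ m ∈ M, bRefl B v hv * m * bRefl B v hv = m⁻¹ := by
      intro v hv m hm
      let φ : ↥M →* ↥M := MonoidHom.mk' (fun a => ⟨_, hnorm v hv a.1 a.2⟩) fun a b => Subtype.ext (by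
        show bRefl B v hv * (a.1 * b.1) * bRefl B v hv = _ * _ * _ * (_ * _ * _)
        rw [mul_assoc (bRefl B v hv * a.1), ← mul_assoc (bRefl B v hv) (bRefl B v hv * b.1),
          ← mul_assoc (bRefl B v hv) (bRefl B v hv), bRefl_mul_self, one_mul]
        simp only [mul_assoc])
      have hff : MonoidHom.FixedPointFree φ := fun g hg =>
        Subtype.ext (hfree v hv g.1 g.2 (congrArg Subtype.val hg))
      have hi : Function.Involutive φ := fun g => Subtype.ext (by
        show bRefl B v hv * (bRefl B v hv * g.1 * bRefl B v hv) * bRefl B v hv = g.1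
        rw [← mul_assoc, ← mul_assoc, bRefl_mul_self, one_mul, mul_assoc, bRefl_mul_self, mul_one])
      exact congrArg Subtype.val (congrFun (hff.coe_eq_inv_of_involutive hi) ⟨m, hm⟩)
    refine (Subgroup.eq_bot_iff_forall _).2 fun m hm => ?_
    haveI : Nontrivial W := Module.nontrivial_of_finrank_pos (R := K) (by omega)
    -- each anisotropic vector is fixed
    have hfix : ∀ v, B v v ≠ 0 → m v = v := by
      intro v hv
      refine fix_of_line h2 (hiso m hm) hv ?_ hodd (hpow m hm)
      have hdv := finrank_perp (B := B) v hv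
      haveI : Nontrivial ↥(LinearMap.ker (B v)) := Module.nontrivial_of_finrank_pos (R := K) (by omega)
      obtain ⟨w, hw⟩ := exists_aniso h2 (symmNondeg_perp h v hv) (exists_ne 0)
      have hdw := finrank_perp (B := perpForm B v) w hw
      haveI : Nontrivial ↥(LinearMap.ker (perpForm B v w)) := Module.nontrivial_of_finrank_pos (R := K) (by omega)
      obtain ⟨w', hw'⟩ := exists_aniso h2 (symmNondeg_perp (symmNondeg_perp h v hv) w hw) (exists_ne 0)
      rw [perpForm_apply, perpForm_apply] at hw'
      rw [perpForm_apply] at hw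
      have hvw : B v (w : W) = 0 := mem_perp.1 w.2
      have hvw' : B v (w' : W) = 0 := mem_perp.1 w'.1.2
      have hww' : B (w : W) (w' : W) = 0 := mem_perp.1 w'.2
      have plane : ∀ y : W, ∀ hy : B y y ≠ 0, B v y = 0 →
          m v = (B v (m v) / B v v) • v + (B y (m v) / B y y) • y := by
        intro y hy hvy
        have h5 := hinv y hy m hm
        have h6 := hinv v hv m hm
        have h7 : bRefl B v hv * m * bRefl B v hv = bRefl B y hy * m * bRefl B y hy := by rw [h5, h6]
        have h8 := congrArg (fun g : W ≃ₗ[K] W => bRefl B v hv (g (bRefl B v hv v))) h7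
        simp only [LinearEquiv.mul_apply, bRefl_bRefl] at h8
        rw [bRefl_self, bRefl_of_orth y hy (x := -v) (by rw [map_neg, h.symm, hvy, neg_zero]), map_neg,
          map_neg, map_neg, bRefl_apply y hy, map_sub, map_smul, bRefl_apply v hv (m v),
          bRefl_of_orth v hv hvy] at h8
        have h9 : (2 : K) • m v = (2 / B v v * B v (m v)) • v + (2 / B y y * B y (m v)) • y := by
          rw [two_smul]; linear_combination (norm := module) h8
        refine smul_right_injective W h2 ?_
        show (2 : K) • m v = (2 : K) • _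
        rw [h9, smul_add, smul_smul, smul_smul]
        congr 2 <;> ring
      have e1 := plane _ hw hvw
      have e2 := plane _ hw' hvw'
      have h10 : B (w : W) (m v) / B (w : W) (w : W) = 0 := by
        have h11 := congrArg (B (w : W)) e2
        simp only [map_add, map_smul, smul_eq_mul, h.symm (w : W) v, hvw, hww', mul_zero, add_zero] at h11
        rw [h11, zero_div]
      refine ⟨B v (m v) / B v v, ?_⟩
      conv_lhs => rw [e1, h10, zero_smul, add_zero]
    refine LinearEquiv.ext fun x => ?_
    show m x = x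
    obtain ⟨v, hv⟩ := exists_aniso h2 h (exists_ne 0)
    by_cases hx : B x x = 0
    · by_cases hxv : B (x + v) (x + v) = 0
      · have hxv' : B (x - v) (x - v) ≠ 0 := by
          intro h0
          simp only [map_add, map_sub, LinearMap.add_apply, LinearMap.sub_apply, hx, h.symm v x] at hxv h0
          exact mul_ne_zero h2 hv (by linear_combination hxv + h0)
        have h3 := hfix _ hxv'
        rw [map_sub, hfix v hv] at h3
        exact sub_left_injective h3
      · have h3 := hfix _ hxv
        rw [map_add, hfix v hv] at h3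
        exact add_right_cancel h3
    · exact hfix x hx

/-- A semilinear map stabilising the planes of non-orthogonal anisotropic pairs is a scalar. -/
theorem eq_smul_of_planes [Finite K] [FiniteDimensional K W] (h2 : (2 : K) ≠ 0) (h : SymmNondeg B)
    (hd : 3 ≤ finrank K W) (T : W →+ W) (hinj : Function.Injective T) (τ : K →+* K)
    (hT : ∀ (c : K) x, T (c • x) = τ c • T x)
    (hplane : ∀ v w, B v v ≠ 0 → B w w ≠ 0 → B v w ≠ 0 → w ∉ K ∙ v → T v ∈ Submodule.span K {v, w}) :
    (∀ c, τ c = c) ∧ ∃ l : K, ∀ x, T x = l • x := by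
  classical
  cases nonempty_fintype K
  haveI : Nontrivial W := Module.nontrivial_of_finrank_pos (R := K) (by omega)
  have hline : ∀ v, B v v ≠ 0 → ∃ l : K, T v = l • v := by
    intro v hv
    have hdv := finrank_perp (B := B) v hv
    have hP := symmNondeg_perp h v hv
    obtain ⟨z, hz⟩ := exists_value h2 hP (by omega) (B v v) hv
    have hdz := finrank_perp (B := perpForm B v) z (by rw [hz]; exact hv)
    haveI : Nontrivial ↥(LinearMap.ker (perpForm B v z)) := Module.nontrivial_of_finrank_pos (R := K) (by omega)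
    obtain ⟨z', hz'⟩ := exists_aniso h2 (symmNondeg_perp hP z (by rw [hz]; exact hv)) (exists_ne 0)
    rw [perpForm_apply, perpForm_apply] at hz'
    rw [perpForm_apply] at hz
    have hvz : B v (z : W) = 0 := mem_perp.1 z.2
    have hvz' : B v (z' : W) = 0 := mem_perp.1 z'.1.2
    have hzz' : B (z : W) (z' : W) = 0 := mem_perp.1 z'.2
    have hzv : B (z : W) v = 0 := by rw [h.symm, hvz]
    have hz'v : B (z' : W) v = 0 := by rw [h.symm, hvz']
    -- a second vector orthogonal to `v`
    obtain ⟨d, hd0, hdv, hdz', hdzd⟩ : ∃ d : W, d ≠ 0 ∧ B v d = 0 ∧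
        B (v + d) (v + d) ≠ 0 ∧ B (z' : W) d ≠ 0 := by
      by_cases hsum : B v v + B (z' : W) (z' : W) = 0
      · refine ⟨(z : W) + (z' : W), ?_, by rw [map_add, hvz, hvz', add_zero], ?_, ?_⟩
        · intro h0
          have h1 := congrArg (B (z' : W)) h0
          rw [map_add, map_zero, h.symm (z' : W) (z : W), hzz', zero_add] at h1
          exact hz' h1
        · simp only [map_add, LinearMap.add_apply, hzz', h.symm (z' : W) (z : W), hz, hvz, hvz', hzv, hz'v,
            add_zero, zero_add]
          intro h0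
          exact hv (by linear_combination h0 - hsum)
        · simp only [map_add, h.symm (z' : W) (z : W), hzz', zero_add]
          exact hz'
      · exact ⟨z', fun h0 => hz' (by rw [h0, map_zero]), hvz', by simpa [hvz', hz'v] using hsum, hz'⟩
    have hin : ∀ y : W, B v y = 0 → y ≠ 0 → B (v + y) (v + y) ≠ 0 → T v ∈ Submodule.span K {v, v + y} := by
      intro y hy hy0 hsum
      refine hplane v (v + y) hv hsum (by rw [map_add, hy, add_zero]; exact hv) fun hmem => ?_
      obtain ⟨a, ha⟩ := Submodule.mem_span_singleton.1 hmem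
      have h5 := congrArg (B v) ha
      rw [map_smul, map_add, hy, add_zero, smul_eq_mul] at h5
      have ha1 : a = 1 := mul_right_cancel₀ hv (by rw [h5, one_mul])
      rw [ha1, one_smul, left_eq_add] at ha
      exact hy0 ha
    obtain ⟨a, b, hab⟩ := Submodule.mem_span_pair.1 (hin z hvz (fun h0 => hv (by rw [← hz, h0]; simp)) (by
      simp only [map_add, LinearMap.add_apply, hvz, hzv, hz, add_zero, zero_add]
      simpa [← two_mul] using mul_ne_zero h2 hv))
    obtain ⟨a', b', hab'⟩ := Submodule.mem_span_pair.1 (hin d hdv hd0 hdz')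
    have h6 := congrArg (B (z' : W)) (hab.trans hab'.symm)
    simp only [map_add, map_smul, smul_eq_mul, hz'v, h.symm (z' : W) (z : W), hzz', mul_zero, add_zero,
      zero_add] at h6
    have hb' : b' = 0 := by simpa [hdzd] using h6.symm
    refine ⟨a', ?_⟩
    rw [← hab', hb', zero_smul, add_zero]
  have hl0 : ∀ (v : W) (l : K), B v v ≠ 0 → T v = l • v → l ≠ 0 := fun v l hv hl h0 => hv (by
    rw [hinj ((hl.trans (by rw [h0, zero_smul])).trans (map_zero T).symm), map_zero])
  have htau : ∀ c, τ c = c := by
    intro c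
    obtain ⟨v, hv⟩ := exists_aniso h2 h (exists_ne 0)
    have hdv := finrank_perp (B := B) v hv
    obtain ⟨ns, hns⟩ := FiniteField.exists_nonsquare (F := K) (fun e => h2 (by
      haveI : CharP K 2 := e ▸ ringChar.charP K
      exact CharTwo.two_eq_zero))
    have hns0 : ns ≠ 0 := fun h0 => hns (h0 ▸ IsSquare.zero)
    obtain ⟨z, hz⟩ := exists_value h2 (symmNondeg_perp h v hv) (by omega) (-(B v v) * ns)
      (mul_ne_zero (neg_ne_zero.2 hv) hns0)
    rw [perpForm_apply] at hz
    have hvz : B v (z : W) = 0 := mem_perp.1 z.2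
    have hzv : B (z : W) v = 0 := by rw [h.symm, hvz]
    have hzz : B (z : W) (z : W) ≠ 0 := by rw [hz]; exact mul_ne_zero (neg_ne_zero.2 hv) hns0
    obtain ⟨l, hl⟩ := hline v hv
    obtain ⟨k, hk⟩ := hline z hzz
    have hval : ∀ c : K, B (v + c • (z : W)) (v + c • (z : W)) ≠ 0 := fun c h0 => by
      simp only [map_add, map_smul, LinearMap.add_apply, LinearMap.smul_apply, smul_eq_mul, hvz, hzv, hz] at h0
      have h1 : B v v * (1 - c * c * ns) = 0 := by linear_combination h0
      have h3 := (mul_eq_zero.1 h1).resolve_left hv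
      have hc0 : c ≠ 0 := fun e => by rw [e] at h3; simp at h3
      exact hns ⟨1 / c, by field_simp; linear_combination -h3⟩
    have hkey : ∀ c : K, τ c * k = c * l := fun c => by
      obtain ⟨μ, hμ⟩ := hline _ (hval c)
      rw [map_add, hT, hl, hk] at hμ
      have h5 := congrArg (B v) hμ
      have h6 := congrArg (B (z : W)) hμ
      simp only [map_add, map_smul, smul_eq_mul, hvz, hzv, mul_zero, add_zero, zero_add] at h5 h6
      have h7 : μ = l := (mul_right_cancel₀ hv h5).symm
      subst h7
      exact mul_right_cancel₀ hzz (by linear_combination h6)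
    have h1 := hkey 1
    rw [map_one, one_mul, one_mul] at h1
    exact mul_right_cancel₀ (hl0 z k hzz hk) (by rw [hkey c, h1])
  refine ⟨htau, ?_⟩
  obtain ⟨v₀, hv₀⟩ := exists_aniso h2 h (exists_ne 0)
  obtain ⟨l, hl⟩ := hline v₀ hv₀
  have step : ∀ v w, B v v ≠ 0 → B w w ≠ 0 → (∃ c : K, c ≠ 0 ∧ B (v + c • w) (v + c • w) ≠ 0) →
      T v = l • v → T w = l • w := by
    rintro v w hv hw ⟨c, hc, hvw⟩ hl'
    by_cases hmem : w ∈ K ∙ v
    · obtain ⟨a, rfl⟩ := Submodule.mem_span_singleton.1 hmem
      rw [hT, htau, hl', smul_comm]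
    obtain ⟨k, hk⟩ := hline w hw
    obtain ⟨μ, hμ⟩ := hline _ hvw
    rw [map_add, hT, htau, hl', hk, smul_add, smul_smul, smul_smul] at hμ
    have h5 : (l - μ) • v + (c * k - μ * c) • w = 0 := by
      linear_combination (norm := module) hμ
    have hli : LinearIndependent K ![v, w] := by
      refine LinearIndependent.pair_iff.2 fun s t hst => ?_
      by_cases ht : t = 0
      · rw [ht, zero_smul, add_zero] at hst
        exact ⟨(smul_eq_zero.1 hst).resolve_right (fun h0 => hv (by rw [h0, map_zero])), ht⟩
      · exfalso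
        refine hmem (Submodule.mem_span_singleton.2 ⟨-(s / t), ?_⟩)
        have h6 := congrArg (fun x => t⁻¹ • x) hst
        simp only [smul_add, smul_smul, inv_mul_cancel₀ ht, one_smul, smul_zero] at h6
        linear_combination (norm := module) -h6
    obtain ⟨e1, e2⟩ := LinearIndependent.pair_iff.1 hli _ _ h5
    have h7 : k = l := mul_left_cancel₀ hc (by linear_combination e2 - c * e1)
    rw [hk, h7]
  have hall : ∀ v, B v v ≠ 0 → T v = l • v := by
    intro v hv
    by_cases hconn : ∃ c : K, c ≠ 0 ∧ B (v₀ + c • v) (v₀ + c • v) ≠ 0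
    · exact step v₀ v hv₀ hv hconn hl
    push Not at hconn
    have e1 := hconn 1 one_ne_zero
    have e2 := hconn (-1) (neg_ne_zero.2 one_ne_zero)
    simp only [map_add, map_smul, LinearMap.add_apply, LinearMap.smul_apply, smul_eq_mul, h.symm v v₀] at e1 e2
    have horth : B v₀ v = 0 := by
      have h5 : (2 * 2) * B v₀ v = 0 := by linear_combination e1 - e2
      exact (mul_eq_zero.1 h5).resolve_left (mul_ne_zero h2 h2)
    have hopp : B v v = -(B v₀ v₀) := by linear_combination e1 - 2 * horth
    have hd₀ := finrank_perp (B := B) v₀ hv₀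
    have hdv := finrank_perp (B := perpForm B v₀) ⟨v, mem_perp.2 horth⟩ hv
    haveI : Nontrivial ↥(LinearMap.ker (perpForm B v₀ ⟨v, mem_perp.2 horth⟩)) :=
      Module.nontrivial_of_finrank_pos (R := K) (by omega)
    obtain ⟨z, hz⟩ := exists_aniso h2
      (symmNondeg_perp (symmNondeg_perp h v₀ hv₀) ⟨v, mem_perp.2 horth⟩ hv) (exists_ne 0)
    rw [perpForm_apply, perpForm_apply] at hz
    have hzv₀ : B v₀ (z : W) = 0 := mem_perp.1 z.1.2
    have hzv : B v (z : W) = 0 := mem_perp.1 z.2
    have hval : ∀ x y : W, B x y = 0 → B (x + (1 : K) • y) (x + (1 : K) • y) = B x x + B y y := fun x y hxy => by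
      simp only [one_smul, map_add, LinearMap.add_apply, hxy, h.symm y x]; ring
    -- join through `z`, or through `v₀ + z` when `z` has the wrong value
    by_cases hA : B v₀ v₀ + B (z : W) (z : W) = 0
    · have hy : B (v + (z : W)) (v + (z : W)) ≠ 0 := by
        have := hval v z hzv
        rw [one_smul] at this
        rw [this, hopp]
        intro h0
        exact mul_ne_zero h2 hv₀ (by linear_combination hA - h0)
      have hvy : B v₀ (v + (z : W)) = 0 := by simp [horth, hzv₀]
      have hT1 : T (v + (z : W)) = l • (v + (z : W)) := step v₀ _ hv₀ hy ⟨1, one_ne_zero, by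
        have := hval v z hzv
        rw [one_smul] at this
        rw [hval _ _ hvy, this, hopp]
        intro h0
        exact hv₀ (by linear_combination hA - h0)⟩ hl
      refine step _ v hy hv ⟨-1, neg_ne_zero.2 one_ne_zero, ?_⟩ hT1
      rw [show v + (z : W) + (-1 : K) • v = (z : W) by module]
      exact hz
    · have hT1 : T (z : W) = l • (z : W) :=
        step v₀ z hv₀ hz ⟨1, one_ne_zero, by rw [hval _ _ hzv₀]; exact hA⟩ hl
      by_cases hB : B (z : W) (z : W) + B v v = 0
      · -- `z` has the value of `v₀`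
        have hy : B (v₀ + (z : W)) (v₀ + (z : W)) ≠ 0 := by
          have := hval v₀ z hzv₀
          rw [one_smul] at this
          rw [this]; exact hA
        have hvy : B (v₀ + (z : W)) v = 0 := by simp [horth, h.symm (z : W) v, hzv]
        refine step _ v hy hv ⟨1, one_ne_zero, ?_⟩ (by rw [map_add, hl, hT1, smul_add])
        have := hval v₀ z hzv₀
        rw [one_smul] at this
        rw [hval _ _ hvy, this]
        intro h0
        exact hv₀ (by linear_combination h0 - hB)
      · exact step _ v hz hv ⟨1, one_ne_zero, by rw [hval _ _ (by rw [h.symm, hzv])]; exact hB⟩ hT1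
  refine ⟨l, fun x => ?_⟩
  by_cases hx : B x x = 0
  · by_cases hxv : B (x + v₀) (x + v₀) = 0
    · have hxv' : B (x - v₀) (x - v₀) ≠ 0 := by
        intro h0
        simp only [map_add, map_sub, LinearMap.add_apply, LinearMap.sub_apply, hx, h.symm v₀ x] at hxv h0
        exact mul_ne_zero h2 hv₀ (by linear_combination hxv + h0)
      have h3 := hall _ hxv'
      rw [map_sub, hl, smul_sub] at h3
      exact sub_left_injective h3
    · have h3 := hall _ hxv
      rw [map_add, hl, smul_add] at h3
      exact add_right_cancel h3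
  · exact hall x hx

end Cfsg.Agent.Lib.POmegaBalance.OddCore
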