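import Cfsg.Agent.Lib.POmegaField.OddMain
import Cfsg.Agent.Lib.POmegaDiag.Frame
import Cfsg.Agent.Lib.Orth.Siegel
import Cfsg.Agent.Lib.Orth.Centre
import Cfsg.Agent.Lib.LocalBalance.Criterion

/-!
# The group over a subfield inside `Ω(Q)`
-/

set_option autoImplicit false

namespace Cfsg.Agent.Lib.POmegaBalance

open QuadraticMap Matrix FieldDescent POmegaAut POmegaField

variable {F : Type*} [Field F] {ι : Type} [Fintype ι] [DecidableEq ι] {Q : QuadraticForm F (ι → F)}
  {F₀ : Type*} [Field F₀] {Q₀ : QuadraticForm F₀ (ι → F₀)} {j : F₀ →+* F}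

/-- base change maps `Ω` into `Ω` -/
theorem liftIso_mem_omega (hQ : IsRestriction j Q Q₀) {g : ↥(Cfsg.isometryGroup F₀ ⇑Q₀)}
    (hg : g ∈ Cfsg.Omega F₀ ⇑Q₀) : liftIso hQ g ∈ Cfsg.Omega F ⇑Q := by
  have h : (commutator ↥(Cfsg.isometryGroup F₀ ⇑Q₀)).map (liftIso hQ) ≤ commutator _ := by
    rw [commutator_def, Subgroup.map_commutator, commutator_def]
    exact Subgroup.commutator_mono le_top le_top
  exact h ⟨g, hg, rfl⟩

/-- `Ω` over the subfield inside `Ω` -/
noncomputable def omegaLift (hQ : IsRestriction j Q Q₀) : ↥(Cfsg.Omega F₀ ⇑Q₀) →* ↥(Cfsg.Omega F ⇑Q) :=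
  ((liftIso hQ).comp (Cfsg.Omega F₀ ⇑Q₀).subtype).codRestrict _ fun g => liftIso_mem_omega hQ g.2

theorem coe_omegaLift (hQ : IsRestriction j Q Q₀) (s : ↥(Cfsg.Omega F₀ ⇑Q₀)) :
    (((omegaLift hQ s : ↥(Cfsg.Omega F ⇑Q)) : ↥(Cfsg.isometryGroup F ⇑Q)).1 : Matrix ι ι F)
      = ((s : ↥(Cfsg.isometryGroup F₀ ⇑Q₀)).1 : Matrix ι ι F₀).map j := rfl

theorem liftIso_injective (hQ : IsRestriction j Q Q₀) : Function.Injective (liftIso hQ) := fun _ _ h =>
  Subtype.ext (Units.ext (Matrix.map_injective j.injective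
    (congrArg (fun x : ↥(Cfsg.isometryGroup F ⇑Q) => (x.1 : Matrix ι ι F)) h)))

theorem omegaLift_injective (hQ : IsRestriction j Q Q₀) : Function.Injective (omegaLift hQ) := fun _ _ h =>
  Subtype.ext (liftIso_injective hQ (congrArg Subtype.val h))

/-- an isometry with entries in the fixed field comes from there -/
theorem exists_liftIso_of_fixed {σ : F ≃+* F} (hj : IsFixedField σ j) (hQ : IsRestriction j Q Q₀)
    (h1 : ∃ v : ι → F₀, Q₀ v = 1) (t : ↥(Cfsg.isometryGroup F ⇑Q)) (hfix : gmap σ t.1 = t.1) :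
    ∃ t₀, liftIso hQ t₀ = t := by
  obtain ⟨h₀, hh⟩ := exists_liftSim_of_fixed hj hQ h1 (isoSim t) hfix
  have hval : GeneralLinearGroup.map j h₀.1 = t.1 := congrArg Subtype.val hh
  refine ⟨⟨h₀.1, fun v _ => j.injective ?_⟩, Subtype.ext hval⟩
  show j (Q₀ ((h₀.1 : Matrix ι ι F₀) *ᵥ v)) = j (Q₀ v)
  rw [← hQ, ← hQ, ← map_j_vec, hval]
  exact t.2 _ fun i => j (v i)

/-- a matrix over `F` commuting with `Ω` of a form over the prime field is a scalar -/
theorem scalar_of_commute_prime {r : ℕ} [Fact r.Prime] [CharP F r] (hr : r ≠ 2) (jr : ZMod r →+* F)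
    {Qr : QuadraticForm (ZMod r) (ι → ZMod r)} (hn : (QuadraticMap.polarBilin Qr).Nondegenerate)
    (hcard : 2 ≤ Fintype.card ι) {e f : Fin 3 → ι → ZMod r} (hef : POmegaDiag.Frame3 Qr e f)
    (M : Matrix ι ι F)
    (hM : ∀ s ∈ Cfsg.Omega (ZMod r) ⇑Qr,
      M * (s.1 : Matrix ι ι (ZMod r)).map jr = (s.1 : Matrix ι ι (ZMod r)).map jr * M) :
    ∃ c : F, M = Matrix.scalar ι c := by
  letI : Algebra (ZMod r) F := jr.toAlgebra
  have hrodd : Odd r := (Fact.out : r.Prime).odd_of_ne_two hr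
  have h2 : (2 : ZMod r) ≠ 0 := fun h => hr ((Nat.prime_dvd_prime_iff_eq (Fact.out : r.Prime) Nat.prime_two).1
    ((ZMod.natCast_eq_zero_iff 2 r).1 (by exact_mod_cast h)))
  -- Siegel elements lie in `Ω`
  have hsieg : ∀ u v (hu : Qr u = 0) (hv : Qr v = 0) (huv : polar ⇑Qr u v = 0),
      Orth.siegel Qr u v hu hv huv 1 ∈ Cfsg.Omega (ZMod r) ⇑Qr := by
    intro u v hu hv huv
    have key : ∀ k : ℕ, Orth.siegel Qr u v hu hv huv 1 ^ k
        = Orth.siegel Qr u v hu hv huv (k : ZMod r) := by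
      intro k
      induction k with
      | zero =>
        rw [Nat.cast_zero, pow_zero]
        exact Subtype.ext (Units.ext (Orth.siegelMatrix_zero u v).symm)
      | succ k ih =>
        rw [pow_succ, ih, Nat.cast_succ]
        exact Subtype.ext (Units.ext (Orth.siegelMatrix_mul hu hv huv (k : ZMod r) 1))
    have hpow : Orth.siegel Qr u v hu hv huv 1 ^ r = 1 := by
      rw [key, ZMod.natCast_self]
      exact Subtype.ext (Units.ext (Orth.siegelMatrix_zero u v))
    have hodd : ∀ χ : ↥(Cfsg.isometryGroup (ZMod r) ⇑Qr) →* ℤˣ, χ (Orth.siegel Qr u v hu hv huv 1) = 1 := by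
      intro χ
      have h := congrArg χ hpow
      rw [map_pow, map_one] at h
      rcases Int.units_eq_one_or (χ (Orth.siegel Qr u v hu hv huv 1)) with h1 | h1
      · exact h1
      · rw [h1, hrodd.neg_one_pow] at h
        exact absurd h (by decide)
    exact (Orth.mem_omega_iff h2 hn hcard _).2 ⟨hodd _, hodd _⟩
  -- each coordinate of `M` is a scalar matrix
  have hπ : ∀ π : F →ₗ[ZMod r] ZMod r, ∃ a : ZMod r, M.map π = Matrix.scalar ι a := by
    intro π
    have hl : ∀ (a : ZMod r) (y : F), π (jr a * y) = a * π y := fun a y => by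
      have := π.map_smul a y
      rwa [Algebra.smul_def, smul_eq_mul] at this
    have hcomm : ∀ s ∈ Cfsg.Omega (ZMod r) ⇑Qr,
        M.map π * (s.1 : Matrix ι ι (ZMod r)) = (s.1 : Matrix ι ι (ZMod r)) * M.map π := by
      intro s hs
      ext i k
      have := congrArg π (congrFun (congrFun (hM s hs) i) k)
      simp only [Matrix.mul_apply, Matrix.map_apply, map_sum, hl] at this ⊢
      rw [← this]
      refine Finset.sum_congr rfl fun l _ => ?_
      rw [mul_comm (M i l), hl, mul_comm]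
    obtain ⟨a, ha⟩ := hef.scalar (M.map π).mulVecLin fun u v hu hv huv x => by
      have h1 := congrArg (fun A : Matrix ι ι (ZMod r) => A *ᵥ x) (hcomm _ (hsieg u v hu hv huv))
      simp only [← mulVec_mulVec] at h1
      change (M.map π) *ᵥ Orth.app _ x = Orth.app _ ((M.map π) *ᵥ x) at h1
      rw [Orth.app_siegel, Orth.app_siegel, one_smul, one_smul, mulVec_add, add_right_inj] at h1
      rw [Matrix.mulVecLin_apply, h1]
      exact sub_mem (Submodule.smul_mem _ _ (Submodule.subset_span (Set.mem_insert_of_mem _ rfl)))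
        (Submodule.smul_mem _ _ (Submodule.subset_span (Set.mem_insert _ _)))
    refine ⟨a, Matrix.ext_iff_mulVec.2 fun x => ?_⟩
    rw [show M.map π *ᵥ x = a • x from ha x]
    funext i
    simp [Matrix.scalar_apply, mulVec_diagonal]
  obtain ⟨i₀⟩ : Nonempty ι := Fintype.card_pos_iff.1 (by omega)
  refine ⟨M i₀ i₀, ?_⟩
  ext i k
  refine sub_eq_zero.1 ((Module.forall_dual_apply_eq_zero_iff (ZMod r) _).1 fun π => ?_)
  obtain ⟨a, ha⟩ := hπ π
  have h1 := congrFun (congrFun ha i) k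
  have h0 := congrFun (congrFun ha i₀) i₀
  simp only [Matrix.map_apply, Matrix.scalar_apply, Matrix.diagonal_apply, if_pos] at h1 h0
  rcases eq_or_ne i k with rfl | hik
  · simp [Matrix.scalar_apply, map_sub, h0, h1]
  · simp [Matrix.scalar_apply, hik, h1]

/-- a field automorphism fixing the fixed field of `σ` has order dividing that of `σ` -/
theorem pow_orderOf_of_fix [Fintype F] {σ τ : F ≃+* F} (h : ∀ y : F, σ y = y → τ y = y) :
    τ ^ orderOf σ = 1 := by
  classical
  haveI : Fintype ↥(fixedField σ) := Fintype.ofFinite _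
  let τ' : F ≃ₐ[↥(fixedField σ)] F := AlgEquiv.ofRingEquiv (f := τ) (fun y => h y y.2)
  have hfr : Module.finrank ↥(fixedField σ) F = orderOf σ := by
    have h1 := card_eq_pow σ
    rw [Module.natCard_eq_pow_finrank (K := ↥(fixedField σ))] at h1
    exact Nat.pow_right_injective (one_lt_card_fixed σ) h1
  have hcard : Nat.card (F ≃ₐ[↥(fixedField σ)] F) = orderOf σ := by
    rw [← hfr, ← Nat.card_eq_of_bijective _ (FiniteField.bijective_frobeniusAlgEquivOfAlgebraic_pow ↥(fixedField σ) F),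
      Nat.card_fin]
  have h1 : τ' ^ orderOf σ = 1 := by rw [← hcard]; exact pow_card_eq_one'
  refine RingEquiv.ext fun y => ?_
  have h2 : ∀ (k : ℕ) (z : F), (τ ^ k) z = (τ' ^ k) z := by
    intro k
    induction k with
    | zero => intro z; rfl
    | succ k ih => intro z; rw [pow_succ, pow_succ]; exact ih (τ z)
  rw [h2, h1]
  rfl

end Cfsg.Agent.Lib.POmegaBalance
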