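import Cfsg.Agent.Lib.POmegaBalance.Component
import Cfsg.Agent.Lib.POmegaDiag.Involution

/-!
# Components of the centraliser of an improper similarity `g` with `g² = μ`

Two eigenspaces when `μ` is a square, one space over `F[√μ]` otherwise.
-/

set_option autoImplicit false

namespace Cfsg.Agent.Lib.POmegaBalance

open QuadraticMap OddCore Module POmegaDiag Matrix

universe u

variable {F : Type u} [Field F] [Fintype F] {ι : Type} [Fintype ι] [DecidableEq ι]
  {Q : QuadraticForm F (ι → F)} {n : ℕ}

/-- the isometries commuting with `g` -/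
def fixG (g : Sim Q) : Subgroup ↥(Cfsg.isometryGroup F ⇑Q) where
  carrier := {o | ∀ v, sv g (Orth.app o v) = Orth.app o (sv g v)}
  one_mem' v := by rw [Orth.app_one, Orth.app_one]
  mul_mem' {a b} ha hb v := by rw [Orth.app_mul, Orth.app_mul, ha, hb]
  inv_mem' {a} ha v := Orth.app_injective a (by rw [← ha, Orth.app_app_inv, Orth.app_app_inv])

theorem sv_add (g : Sim Q) (x y : ι → F) : sv g (x + y) = sv g x + sv g y := mulVec_add _ x y

theorem sv_sub (g : Sim Q) (x y : ι → F) : sv g (x - y) = sv g x - sv g y := mulVec_sub _ x y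

theorem sv_smul (g : Sim Q) (c : F) (x : ι → F) : sv g (c • x) = c • sv g x := mulVec_smul _ c x

/-- an isometry of odd order fixing an anisotropic line fixes it pointwise -/
theorem app_fix_of_line (h2 : (2 : F) ≠ 0) {m : ↥(Cfsg.isometryGroup F ⇑Q)} {v : ι → F} (hv : Q v ≠ 0)
    {c : F} (hc : Orth.app m v = c • v) {k : ℕ} (hk : Odd k) (hmk : m ^ k = 1) : Orth.app m v = v := by
  have hsq : c * c = 1 := mul_right_cancel₀ hv (by
    have := Orth.Q_app m v
    rw [hc, QuadraticMap.map_smul, smul_eq_mul] at this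
    rw [this, one_mul])
  rcases mul_self_eq_one_iff.1 hsq with rfl | rfl
  · rw [hc, one_smul]
  · exfalso
    have key : ∀ i : ℕ, Orth.app (m ^ i) v = (-1 : F) ^ i • v := fun i => by
      induction i with
      | zero => simp
      | succ i ih =>
        rw [pow_succ, Orth.app_mul, hc, Orth.app_smul, ih, smul_smul, pow_succ']
    have h1 := key k
    rw [hmk, hk.neg_one_pow, Orth.app_one, neg_one_smul] at h1
    have h3 : (2 : F) • v = 0 := by rw [two_smul]; nth_rewrite 2 [h1]; exact add_neg_cancel v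
    exact hv (by rw [(smul_eq_zero.1 h3).resolve_left h2, QuadraticMap.map_zero])

/-- what the components give -/
structure GraphData (g : Sim Q) : Prop where
  no_odd : ∀ M : Subgroup ↥(Cfsg.isometryGroup F ⇑Q), M ≤ fixG g → Odd (Nat.card ↥M) →
    (∀ o ∈ fixG g, ∀ m ∈ M, o * m * o⁻¹ ∈ M) → M = ⊥
  scalar : ∀ (T : (ι → F) →+ (ι → F)) (σ : F ≃+* F) (κ ν : F), Function.Injective T →
    (∀ (c : F) x, T (c • x) = σ c • T x) → (∀ x, Q (T x) = ν * σ (Q x)) →
    (∀ x, T (sv g x) = κ • sv g (T x)) →
    (∀ o ∈ fixG g, (∀ x, T (Orth.app (o * o) x) = Orth.app (o * o) (T x)) ∨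
      (∀ x, T (Orth.app (o * o) x) = -Orth.app (o * o) (T x))) →
    σ = 1 ∧ ((∃ l : F, ∀ x, T x = l • x) ∨ ∃ l : F, ∀ x, T x = l • sv g x)

theorem graphData_square (E : EvenForm Q n) (hn : 4 ≤ n) {g : Sim Q} (hg : E.proper g = -1)
    (hg2 : g * g = scal (mult g)) {s : F} (hs : s * s = (mult g : F)) : GraphData g := by
  classical
  have hs0 : s ≠ 0 := fun h0 => (mult g).ne_zero (by rw [← hs, h0, mul_zero])
  have h2V : ∀ x : ι → F, x + x = 0 → x = 0 := fun x hx =>
    (smul_eq_zero.1 (show (2 : F) • x = 0 by rw [two_smul]; exact hx)).resolve_left E.two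
  set L := ((g : GL ι F) : Matrix ι ι F).mulVecLin with hL
  let W : F → Submodule F (ι → F) := fun t => LinearMap.ker (L - t • LinearMap.id)
  have hW : ∀ t x, x ∈ W t ↔ sv g x = t • x := fun t x => by
    simp [W, hL, sub_eq_zero]
  have hsq : ∀ t, (t = s ∨ t = -s) → t * t = (mult g : F) ∧ t ≠ 0 := by
    rintro t (rfl | rfl)
    · exact ⟨hs, hs0⟩
    · exact ⟨by rw [neg_mul_neg, hs], neg_ne_zero.2 hs0⟩
  have hdec : ∀ t, (t = s ∨ t = -s) → ∀ x : ι → F, ∃ y z, y ∈ W t ∧ z ∈ W (-t) ∧ x = y + z := fun t ht x => by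
    obtain ⟨htt, ht0⟩ := hsq t ht
    have hgg : sv g (sv g x) = (mult g : F) • x := E.sv_sv hg2 x
    refine ⟨(2 * t)⁻¹ • (t • x + sv g x), (2 * t)⁻¹ • (t • x - sv g x), (hW _ _).2 ?_, (hW _ _).2 ?_, ?_⟩
    · rw [sv_smul, sv_add, sv_smul, hgg, ← htt]
      module
    · rw [sv_smul, sv_sub, sv_smul, hgg, ← htt]
      module
    · have := E.two
      match_scalars <;> field_simp <;> ring
  have horth : ∀ t, (t = s ∨ t = -s) → ∀ y ∈ W t, ∀ z ∈ W (-t), polar Q y z = 0 := fun t ht y hy z hz => by
    have h1 := E.self_adjoint hg2 y z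
    rw [(hW _ _).1 hy, (hW _ _).1 hz, polar_smul_left, polar_smul_right, smul_eq_mul, smul_eq_mul] at h1
    have h4 : (2 * t) * polar Q y z = 0 := by linear_combination h1
    exact (mul_eq_zero.1 h4).resolve_left (mul_ne_zero E.two (hsq t ht).2)
  have hneg : ∀ t, (t = s ∨ t = -s) → (-t = s ∨ -t = -s) := by
    rintro t (rfl | rfl)
    exacts [Or.inr rfl, Or.inl (neg_neg s)]
  have hrad : ∀ t, (t = s ∨ t = -s) → ∀ y ∈ W t, (∀ x ∈ W t, polar Q y x = 0) → y = 0 :=
    fun t ht y hy h => E.nondeg.1 y fun x => by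
      show polar Q y x = 0
      obtain ⟨a, b, ha, hb, rfl⟩ := hdec t ht x
      rw [polar_add_right, h a ha, horth t ht y hy b hb, add_zero]
  -- both eigenspaces have odd dimension
  have hcompl : IsCompl (W s) (W (-s)) := by
    refine ⟨Submodule.disjoint_def.2 fun x hx hx' => hrad s (Or.inl rfl) x hx fun y hy => ?_,
      codisjoint_iff.2 (eq_top_iff.2 fun x _ => ?_)⟩
    · rw [polar_comm]; exact horth s (Or.inl rfl) y hy x hx'
    · obtain ⟨y, z, hy, hz, rfl⟩ := hdec s (Or.inl rfl) x
      exact Submodule.add_mem_sup hy hz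
  have hdim : Odd (finrank F ↥(W s)) ∧ Odd (finrank F ↥(W (-s))) ∧
      finrank F ↥(W s) + finrank F ↥(W (-s)) = 2 * n := by
    have hsum := Submodule.finrank_add_eq_of_isCompl hcompl
    rw [Module.finrank_fintype_fun_eq_card, E.dim] at hsum
    set a := finrank F ↥(W s)
    set b := finrank F ↥(W (-s))
    have hdet : LinearMap.det L = s ^ a * (-s) ^ b := by
      set e := Submodule.prodEquivOfIsCompl _ _ hcompl
      have hcomp : L ∘ₗ e.toLinearMap = e.toLinearMap ∘ₗ
          LinearMap.prodMap (s • LinearMap.id) ((-s) • LinearMap.id) := LinearMap.ext fun x => by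
        show L ((x.1 : ι → F) + x.2) = ((s • x.1 : ↥(W s)) : ι → F) + (((-s) • x.2 : ↥(W (-s))) : ι → F)
        rw [map_add, Submodule.coe_smul, Submodule.coe_smul]
        exact congrArg₂ (· + ·) ((hW _ _).1 x.1.2) ((hW _ _).1 x.2.2)
      have h5 : L = e.toLinearMap ∘ₗ LinearMap.prodMap (s • LinearMap.id) ((-s) • LinearMap.id) ∘ₗ
          e.symm.toLinearMap := by
        rw [← LinearMap.comp_assoc, ← hcomp, LinearMap.comp_assoc, LinearEquiv.comp_symm, LinearMap.comp_id]
      rw [h5, LinearMap.det_conj, LinearMap.det_prodMap, LinearMap.det_smul, LinearMap.det_smul,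
        LinearMap.det_id, LinearMap.det_id, mul_one, mul_one]
    have hdet' : ((g : GL ι F) : Matrix ι ι F).det = s ^ a * (-s) ^ b := by
      rw [← hdet, hL, ← Matrix.toLin'_apply', LinearMap.det_toLin']
    have hodd : Odd b := by
      by_contra hb
      rw [Nat.not_odd_iff_even] at hb
      have h6 : E.proper g = 1 := (E.proper_eq_one_iff g).2 (by
        rw [hdet', hb.neg_pow, ← pow_add, hsum, pow_mul, pow_two, hs])
      rw [hg] at h6
      exact absurd h6 (by decide)
    refine ⟨?_, hodd, hsum⟩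
    have : Odd (a + b) ↔ (Odd a ↔ Even b) := Nat.odd_add
    rcases Nat.even_or_odd a with ha | ha
    · exfalso
      have h7 : Odd (a + b) := ha.add_odd hodd
      rw [hsum] at h7
      exact absurd h7 (by simp)
    · exact ha
  -- the component of an eigenspace
  let B : ∀ t, LinearMap.BilinForm F ↥(W t) := fun t =>
    Q.polarBilin.compl₁₂ (W t).subtype (W t).subtype
  let emb : ∀ t, ↥(W t) →+ (ι → F) := fun t => (W t).subtype.toAddMonoidHom
  have hQ : ∀ t (v : ↥(W t)), B t v v = 2 * Q (v : ι → F) := fun t v => by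
    show polar Q (v : ι → F) v = _
    rw [polar_self, two_nsmul, two_mul]
  have comp : ∀ t, (t = s ∨ t = -s) → Comp (fixG g) (B t) (emb t) := fun t ht =>
    { form := ⟨fun x y => polar_comm _ _ _, fun x hx => Subtype.ext (hrad t ht x x.2 fun y hy => hx ⟨y, hy⟩)⟩
      inj := Subtype.val_injective
      stable := fun o ho w => ⟨⟨Orth.app o (w : ι → F), (hW _ _).2 (by
        rw [ho, (hW _ _).1 w.2, Orth.app_smul])⟩, rfl⟩
      linear := fun o _ c w w' h => by
        show Orth.app o ((c • w : ↥(W t)) : ι → F) = ((c • w' : ↥(W t)) : ι → F)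
        rw [Submodule.coe_smul, Submodule.coe_smul, Orth.app_smul]
        exact congrArg (c • ·) h
      iso := fun o _ x y x' y' hx hy => by
        show polar Q (x' : ι → F) y' = polar Q (x : ι → F) y
        rw [show ((x' : ι → F)) = Orth.app o x from hx.symm, show ((y' : ι → F)) = Orth.app o y from hy.symm,
          Orth.polar_app]
      refl := fun v hv => by
        have hv0 : Q (v : ι → F) ≠ 0 := fun h0 => hv (by rw [hQ, h0, mul_zero])
        have hk : ∀ x, (2 / B t v v * polar Q (v : ι → F) x) = (Q (v : ι → F))⁻¹ * polar Q (v : ι → F) x :=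
          fun x => by rw [hQ]; field_simp [E.two]
        refine ⟨Orth.refl Q (v : ι → F) hv0, fun x => ?_, fun w => ?_, fun x => ⟨-((Q (v : ι → F))⁻¹ *
          polar Q (v : ι → F) x), ?_⟩⟩
        · rw [Orth.app_refl, Orth.app_refl, sv_sub, sv_smul, (hW _ _).1 v.2, ← E.self_adjoint hg2,
            (hW _ _).1 v.2, polar_smul_left, smul_smul, smul_eq_mul]
          congr 2
          ring
        · show Orth.app _ (w : ι → F) = ((bRefl (B t) v hv w : ↥(W t)) : ι → F)
          rw [Orth.app_refl, bRefl_apply, Submodule.coe_sub, Submodule.coe_smul,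
            show B t v w = polar Q (v : ι → F) w from rfl, hk]
        · show _ = x + (((-((Q (v : ι → F))⁻¹ * polar Q (v : ι → F) x)) • v : ↥(W t)) : ι → F)
          rw [Submodule.coe_smul, Orth.app_refl, neg_smul, sub_eq_add_neg] }
  have hq : 3 ≤ Nat.card F := by
    rw [Nat.card_eq_fintype_card]
    have h1 := FiniteField.odd_card_of_char_ne_two (F := F) E.ringChar_ne_two
    have h3 := Fintype.one_lt_card (α := F)
    omega
  have hbig : Nat.card F ^ 4 < Nat.card (ι → F) := by
    rw [Nat.card_fun, Nat.card_eq_fintype_card (α := ι), E.dim]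
    exact Nat.pow_lt_pow_right (by omega) (by omega)
  constructor
  · intro M hMG hodd hnorm
    have hfix : ∀ t, (t = s ∨ t = -s) → ∀ m ∈ M, ∀ x ∈ W t, Orth.app m x = x := by
      intro t ht m hm x hx
      have hd : Odd (finrank F ↥(W t)) := by rcases ht with rfl | rfl; exacts [hdim.1, hdim.2.1]
      rcases Nat.lt_or_ge (finrank F ↥(W t)) 3 with hlt | hge
      · have h1 : finrank F ↥(W t) = 1 := by obtain ⟨k, hk⟩ := hd; omega
        haveI : Nontrivial ↥(W t) := Module.nontrivial_of_finrank_pos (R := F) (by omega)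
        obtain ⟨v, hv⟩ := exists_aniso E.two (comp t ht).form (exists_ne 0)
        have hvn : v ≠ 0 := fun h0 => hv (by rw [h0, map_zero])
        obtain ⟨w', hw'⟩ := (comp t ht).stable m (hMG hm) v
        obtain ⟨c, hc⟩ := exists_smul_eq_of_finrank_eq_one h1 hvn w'
        obtain ⟨d, hd'⟩ := exists_smul_eq_of_finrank_eq_one h1 hvn (⟨x, hx⟩ : ↥(W t))
        have hm1 : m ^ Nat.card ↥M = 1 := congrArg Subtype.val (pow_card_eq_one' (x := (⟨m, hm⟩ : ↥M)))
        have hfv := app_fix_of_line E.two (fun h0 => hv (by rw [hQ, h0, mul_zero]))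
          (c := c) (by rw [show Orth.app m (v : ι → F) = (w' : ι → F) from hw', ← hc, Submodule.coe_smul]) hodd hm1
        rw [show x = d • (v : ι → F) from (congrArg Subtype.val hd').symm, Orth.app_smul, hfv]
      · exact (comp t ht).fixes E.two hge M hMG hodd hnorm m hm ⟨x, hx⟩
    refine (Subgroup.eq_bot_iff_forall _).2 fun m hm => Orth.isometry_ext fun x => ?_
    obtain ⟨y, z, hy, hz, rfl⟩ := hdec s (Or.inl rfl) x
    rw [Orth.app_add, hfix s (Or.inl rfl) m hm y hy, hfix (-s) (Or.inr rfl) m hm z hz, Orth.app_one]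
  · intro T σ κ ν hinj hlin hform _ hcomm
    have hscal : ∀ t, (t = s ∨ t = -s) → 3 ≤ finrank F ↥(W t) →
        (∀ c, σ c = c) ∧ ∃ l : F, ∀ x ∈ W t, T x = l • x := fun t ht hd => by
      obtain ⟨hσ, l, hl⟩ := (comp t ht).scalar E.two h2V hd hbig T hinj σ.toRingHom
        (fun c x y hxy => by
          show T ((c • x : ↥(W t)) : ι → F) = ((σ c • y : ↥(W t)) : ι → F)
          rw [Submodule.coe_smul, Submodule.coe_smul, hlin]
          exact congrArg (σ c • ·) hxy) hcomm
      exact ⟨hσ, l, fun x hx => hl ⟨x, hx⟩⟩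
    obtain ⟨t, ht, hdt⟩ : ∃ t, (t = s ∨ t = -s) ∧ 3 ≤ finrank F ↥(W t) := by
      rcases Nat.lt_or_ge (finrank F ↥(W s)) 3 with h | h
      · exact ⟨-s, Or.inr rfl, by have := hdim.2.2; omega⟩
      · exact ⟨s, Or.inl rfl, h⟩
    obtain ⟨hσ, l, hl⟩ := hscal t ht hdt
    have hσ1 : σ = 1 := RingEquiv.ext hσ
    refine ⟨hσ1, ?_⟩
    have hl0 : l ≠ 0 := fun h0 => by
      haveI : Nontrivial ↥(W t) := Module.nontrivial_of_finrank_pos (R := F) (by omega)
      obtain ⟨v, hv⟩ := exists_ne (0 : ↥(W t))
      exact hv (Subtype.ext (hinj (((hl v v.2).trans (by rw [h0, zero_smul])).trans (map_zero T).symm)))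
    have hpol : ∀ x y, polar Q (T x) (T y) = ν * polar Q x y := fun x y => by
      simp only [polar, ← map_add, hform, hσ]
      ring
    have hstab : ∀ z ∈ W (-t), T z ∈ W (-t) := fun z hz => by
      obtain ⟨a, b, ha, hb, hab⟩ := hdec t ht (T z)
      have ha0 : a = 0 := hrad t ht a ha fun w hw => by
        have h1 : polar Q (T z) w = 0 := by
          rw [show w = T (l⁻¹ • w) by rw [hl _ (Submodule.smul_mem _ _ hw), smul_inv_smul₀ hl0], hpol,
            polar_comm (⇑Q) z, horth t ht _ (Submodule.smul_mem _ _ hw) z hz, mul_zero]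
        rw [hab, polar_add_left, polar_comm (⇑Q) b w, horth t ht w hw b hb, add_zero] at h1
        exact h1
      rw [hab, ha0, zero_add]
      exact hb
    obtain ⟨k, hk⟩ : ∃ k : F, ∀ z ∈ W (-t), T z = k • z := by
      rcases Nat.lt_or_ge (finrank F ↥(W (-t))) 3 with hlt | hge
      · have hd : Odd (finrank F ↥(W (-t))) := by
          rcases hneg t ht with h | h <;> rw [h]; exacts [hdim.1, hdim.2.1]
        have h1 : finrank F ↥(W (-t)) = 1 := by obtain ⟨k, hk⟩ := hd; omega
        haveI : Nontrivial ↥(W (-t)) := Module.nontrivial_of_finrank_pos (R := F) (by omega)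
        obtain ⟨v, hv⟩ := exists_ne (0 : ↥(W (-t)))
        obtain ⟨c, hc⟩ := exists_smul_eq_of_finrank_eq_one h1 hv (⟨T v, hstab v v.2⟩ : ↥(W (-t)))
        refine ⟨c, fun z hz => ?_⟩
        obtain ⟨d, hd'⟩ := exists_smul_eq_of_finrank_eq_one h1 hv (⟨z, hz⟩ : ↥(W (-t)))
        have hTv : T (v : ι → F) = c • (v : ι → F) := (congrArg Subtype.val hc).symm
        rw [show z = d • (v : ι → F) from (congrArg Subtype.val hd').symm, hlin, hσ, hTv, smul_comm]
      · exact (hscal (-t) (hneg t ht) hge).2
    have hsqv : ∀ t', (t' = s ∨ t' = -s) → ∀ l', (∀ x ∈ W t', T x = l' • x) → l' * l' = ν := by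
      intro t' ht' l' hl'
      have hd : Odd (finrank F ↥(W t')) := by rcases ht' with rfl | rfl; exacts [hdim.1, hdim.2.1]
      haveI : Nontrivial ↥(W t') := Module.nontrivial_of_finrank_pos (R := F) hd.pos
      obtain ⟨v, hv⟩ := exists_aniso E.two (comp t' ht').form (exists_ne 0)
      have h1 := hpol (v : ι → F) v
      rw [hl' _ v.2, polar_smul_left, polar_smul_right, smul_eq_mul, smul_eq_mul, ← mul_assoc] at h1
      exact mul_right_cancel₀ hv h1
    rcases mul_self_eq_mul_self_iff.1 ((hsqv t ht l hl).trans (hsqv (-t) (hneg t ht) k hk).symm) with h | h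
    · refine Or.inl ⟨l, fun x => ?_⟩
      obtain ⟨y, z, hy, hz, rfl⟩ := hdec t ht x
      rw [map_add, hl y hy, hk z hz, ← h, smul_add]
    · refine Or.inr ⟨l / t, fun x => ?_⟩
      obtain ⟨y, z, hy, hz, rfl⟩ := hdec t ht x
      rw [map_add, hl y hy, hk z hz, sv_add, (hW _ _).1 hy, (hW _ _).1 hz, smul_add, smul_smul, smul_smul,
        div_mul_cancel₀ _ (hsq t ht).2, show l / t * -t = k by
          rw [mul_neg, div_mul_cancel₀ _ (hsq t ht).2, h, neg_neg]]

theorem graphData_nonsquare (E : EvenForm Q n) (hn : 4 ≤ n) {g : Sim Q} (hg : E.proper g = -1)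
    (hg2 : g * g = scal (mult g)) (hns : ¬ IsSquare (mult g : F)) : GraphData g := by
  classical
  set μ := (mult g : F) with hμdef
  have hμ0 : μ ≠ 0 := (mult g).ne_zero
  set G0 := ((g : GL ι F) : Matrix ι ι F) with hG0
  have hn5 : 5 ≤ n := by
    rcases Nat.lt_or_ge n 5 with h | h
    · exfalso
      obtain rfl : n = 4 := by omega
      have h6 : E.proper g = 1 := (E.proper_eq_one_iff g).2 (by
        rw [det_of_nonsquare E.dim (E.mat_sq hg2) hns, Even.neg_pow (by decide)])
      rw [hg] at h6
      exact absurd h6 (by decide)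
    · exact h
  have hirr : Irreducible (Polynomial.X ^ 2 - Polynomial.C μ) :=
    X_pow_sub_C_irreducible_of_prime Nat.prime_two fun r hr => hns ⟨r, by rw [← hr, pow_two]⟩
  haveI := Fact.mk hirr
  set K := AdjoinRoot (Polynomial.X ^ 2 - Polynomial.C μ) with hK
  set θ : K := AdjoinRoot.root _ with hθdef
  let φ : K →+* Module.End F (ι → F) := Ideal.Quotient.lift (Ideal.span {Polynomial.X ^ 2 - Polynomial.C μ})
    (Polynomial.aeval G0.mulVecLin).toRingHom (fun a ha => by
      obtain ⟨b, rfl⟩ := Ideal.mem_span_singleton'.1 ha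
      show Polynomial.aeval G0.mulVecLin (b * _) = 0
      rw [map_mul, show Polynomial.aeval G0.mulVecLin (Polynomial.X ^ 2 - Polynomial.C μ) = 0 by
        rw [map_sub, map_pow, Polynomial.aeval_X, Polynomial.aeval_C, sub_eq_zero]
        refine LinearMap.ext fun x => ?_
        rw [pow_two]
        show G0.mulVecLin (G0.mulVecLin x) = μ • x
        exact E.sv_sv hg2 x, mul_zero])
  letI : Module K (ι → F) := Module.compHom (ι → F) φ
  have hsmulθ : ∀ x : ι → F, θ • x = sv g x := fun x => by
    show Polynomial.aeval G0.mulVecLin (Polynomial.X : Polynomial F) x = _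
    rw [Polynomial.aeval_X]
    rfl
  have hsmulF : ∀ (a : F) (x : ι → F), algebraMap F K a • x = a • x := fun a x => by
    show Polynomial.aeval G0.mulVecLin (Polynomial.C a) x = _
    rw [Polynomial.aeval_C]
    rfl
  haveI : IsScalarTower F K (ι → F) := ⟨fun a k x => by
    rw [Algebra.smul_def, mul_smul, hsmulF]⟩
  haveI : FiniteDimensional F K := (AdjoinRoot.powerBasis hirr.ne_zero).finite
  haveI : Finite K := Module.finite_of_finite F
  haveI : FiniteDimensional K (ι → F) := Module.Finite.of_restrictScalars_finite F K (ι → F)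
  have hfrK : finrank F K = 2 := by
    rw [(AdjoinRoot.powerBasis hirr.ne_zero).finrank, AdjoinRoot.powerBasis_dim,
      Polynomial.natDegree_X_pow_sub_C]
  have hd : finrank K (ι → F) = n := by
    have h1 := Module.finrank_mul_finrank F K (ι → F)
    rw [hfrK, Module.finrank_fintype_fun_eq_card, E.dim] at h1
    omega
  have hθ2 : θ * θ = algebraMap F K μ := by
    have h1 : Polynomial.eval₂ (AdjoinRoot.of _) θ (Polynomial.X ^ 2 - Polynomial.C μ) = 0 :=
      AdjoinRoot.eval₂_root _
    rw [Polynomial.eval₂_sub, Polynomial.eval₂_pow, Polynomial.eval₂_X, Polynomial.eval₂_C] at h1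
    rw [← pow_two]
    exact sub_eq_zero.1 h1
  have hind : ∀ a b : F, algebraMap F K a + θ * algebraMap F K b = 0 → a = 0 ∧ b = 0 := by
    intro a b hab
    have hb : b = 0 := by
      by_contra hb
      refine hns ⟨a / b, (algebraMap F K).injective ?_⟩
      have hbK : algebraMap F K b ≠ 0 := (map_ne_zero _).2 hb
      rw [map_mul, map_div₀, div_mul_div_comm, eq_div_iff (mul_ne_zero hbK hbK)]
      have h1 : algebraMap F K a = -(θ * algebraMap F K b) := by linear_combination hab
      rw [h1, ← hθ2]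
      ring
    rw [hb, map_zero, mul_zero, add_zero] at hab
    exact ⟨(algebraMap F K).injective (hab.trans (map_zero _).symm), hb⟩
  have hgen : ∀ P : K → Prop, (∀ a, P (algebraMap F K a)) → P θ → (∀ c d, P c → P d → P (c + d)) →
      (∀ c d, P c → P d → P (c * d)) → ∀ c, P c := by
    intro P ha hθ hadd hmul c
    have hc : c ∈ Algebra.adjoin F ({θ} : Set K) := by
      rw [hθdef, AdjoinRoot.adjoinRoot_eq_top]; exact Algebra.mem_top
    induction hc using Algebra.adjoin_induction with
    | mem x hx => exact (Set.mem_singleton_iff.1 hx) ▸ hθ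
    | algebraMap a => exact ha a
    | add x y _ _ hx hy => exact hadd x y hx hy
    | mul x y _ _ hx hy => exact hmul x y hx hy
  -- the form over `K`
  let bf : (ι → F) → (ι → F) → K := fun x y =>
    algebraMap F K (polar Q x y) + θ * algebraMap F K (μ⁻¹ * polar Q (sv g x) y)
  have hsymm : ∀ x y, bf x y = bf y x := fun x y => by
    show _ + θ * _ = _ + θ * _
    rw [polar_comm (⇑Q) x y, polar_comm (⇑Q) (sv g x) y, ← E.self_adjoint hg2 y x]
  have hadd₁ : ∀ x x' y, bf (x + x') y = bf x y + bf x' y := fun x x' y => by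
    show _ + θ * _ = (_ + θ * _) + (_ + θ * _)
    rw [sv_add, polar_add_left, polar_add_left, mul_add, map_add, map_add]
    ring
  have hθbf : ∀ x y, bf (θ • x) y = θ * bf x y := fun x y => by
    show _ + θ * _ = θ * (_ + θ * _)
    rw [hsmulθ, E.sv_sv hg2, polar_smul_left, smul_eq_mul, ← mul_assoc μ⁻¹, inv_mul_cancel₀ hμ0, one_mul,
      mul_add, ← mul_assoc θ θ, hθ2, ← map_mul, ← mul_assoc μ, mul_inv_cancel₀ hμ0, one_mul]
    ring
  have hsmul₁ : ∀ (c : K) x y, bf (c • x) y = c * bf x y := by
    intro c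
    refine hgen (fun c => ∀ x y, bf (c • x) y = c * bf x y) (fun a x y => ?_) hθbf
      (fun c d hc hd x y => by rw [add_smul, hadd₁, hc, hd, add_mul])
      (fun c d hc hd x y => by rw [mul_smul, hc, hd, mul_assoc]) c
    show _ + θ * _ = _ * (_ + θ * _)
    rw [hsmulF, sv_smul, polar_smul_left, polar_smul_left, smul_eq_mul, smul_eq_mul, map_mul, map_mul,
      map_mul, map_mul]
    ring
  let B : LinearMap.BilinForm K (ι → F) := LinearMap.mk₂ K bf hadd₁ (fun c x y => hsmul₁ c x y)
    (fun x y y' => by rw [hsymm x, hadd₁, hsymm y, hsymm y'])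
    (fun c x y => by rw [hsymm x, hsmul₁, hsymm y]; rfl)
  have hBapp : ∀ x y, B x y = bf x y := fun x y => rfl
  have hlinK : ∀ o ∈ fixG g, ∀ (c : K) x, Orth.app o (c • x) = c • Orth.app o x := by
    intro o ho
    refine hgen _ (fun a x => by rw [hsmulF, hsmulF, Orth.app_smul]) (fun x => by rw [hsmulθ, hsmulθ, ← ho])
      (fun c d hc hd x => by rw [add_smul, add_smul, Orth.app_add, hc, hd])
      (fun c d hc hd x => by rw [mul_smul, mul_smul, hc, hd])
  have comp : Comp (fixG g) B (AddMonoidHom.id (ι → F)) :=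
    { form := ⟨fun x y => hsymm x y, fun x hx => E.nondeg.1 x fun y => (hind _ _ (hx y)).1⟩
      inj := fun _ _ h => h
      stable := fun o _ w => ⟨_, rfl⟩
      linear := fun o ho c w w' h => (hlinK o ho c w).trans (congrArg (c • ·) h)
      iso := fun o ho x y x' y' hx hy => by
        change Orth.app o x = x' at hx
        change Orth.app o y = y' at hy
        subst hx hy
        show _ + θ * _ = _ + θ * _
        rw [ho, Orth.polar_app, Orth.polar_app]
      refl := fun v hv => by
        let e : (ι → F) ≃ₗ[F] (ι → F) := (bRefl B v hv).restrictScalars F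
        have he : ∀ x, Q (e x) = Q x := fun x => by
          have h1 : bf (bRefl B v hv x) (bRefl B v hv x) = bf x x :=
            bRefl_iso ⟨fun a b => hsymm a b, fun a ha => E.nondeg.1 a fun b => (hind _ _ (ha b)).1⟩ v hv x x
          change algebraMap F K (polar Q (e x) (e x)) + θ * algebraMap F K (μ⁻¹ * polar Q (sv g (e x)) (e x))
            = algebraMap F K (polar Q x x) + θ * algebraMap F K (μ⁻¹ * polar Q (sv g x) x) at h1
          have h2 := (hind (polar Q (e x) (e x) - polar Q x x)
            (μ⁻¹ * polar Q (sv g (e x)) (e x) - μ⁻¹ * polar Q (sv g x) x) (by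
              rw [map_sub, map_sub]
              linear_combination h1)).1
          rw [sub_eq_zero, polar_self, polar_self, two_nsmul, two_nsmul, ← two_mul, ← two_mul] at h2
          exact mul_left_cancel₀ E.two h2
        refine ⟨Orth.ofEquiv Q e he, fun x => ?_, fun w => Orth.app_ofEquiv e he w,
          fun x => ⟨-(2 / B v v * B v x), ?_⟩⟩
        · rw [Orth.app_ofEquiv, Orth.app_ofEquiv, ← hsmulθ, ← hsmulθ]
          exact ((bRefl B v hv).map_smul θ x).symm
        · rw [Orth.app_ofEquiv]
          show bRefl B v hv x = x + (-(2 / B v v * B v x)) • v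
          rw [bRefl_apply, neg_smul, sub_eq_add_neg] }
  have hdim : 3 ≤ finrank K (ι → F) := by omega
  have h2K : (2 : K) ≠ 0 := fun h => E.two ((algebraMap F K).injective (by rw [map_ofNat, map_zero, h]))
  constructor
  · intro M hMG hodd hnorm
    exact (Subgroup.eq_bot_iff_forall _).2 fun m hm => Orth.isometry_ext fun x =>
      (comp.fixes h2K hdim M hMG hodd hnorm m hm x).trans (Orth.app_one x).symm
  · intro T σ κ ν hinj hlin hform hTg hcomm
    have hκ : κ * κ * μ = σ μ := by
      obtain ⟨v, hv⟩ := E.exists_ne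
      have hv0 : T v ≠ 0 := fun h0 => hv (by rw [hinj (h0.trans (map_zero T).symm), QuadraticMap.map_zero])
      refine smul_left_injective F hv0 ?_
      show (κ * κ * μ) • T v = σ μ • T v
      rw [← hlin, ← E.sv_sv hg2 v, hTg, hTg, sv_smul, E.sv_sv hg2, smul_smul, smul_smul, mul_assoc κ κ]
    let τ : K →+* K := AdjoinRoot.lift ((algebraMap F K).comp σ.toRingHom) (algebraMap F K κ * θ) (by
      rw [Polynomial.eval₂_sub, Polynomial.eval₂_pow, Polynomial.eval₂_X, Polynomial.eval₂_C]
      show _ - algebraMap F K (σ μ) = 0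
      rw [← hκ, map_mul, map_mul, ← hθ2]
      ring)
    have hτθ : τ θ = algebraMap F K κ * θ := AdjoinRoot.lift_root _
    have hτa : ∀ a, τ (algebraMap F K a) = algebraMap F K (σ a) := fun a => AdjoinRoot.lift_of _
    have hsemi : ∀ (c : K) (x : ι → F), T (c • x) = τ c • T x :=
      hgen _ (fun a x => by rw [hτa, hsmulF, hsmulF, hlin])
        (fun x => by rw [hτθ, mul_smul, hsmulF, hsmulθ, hsmulθ, hTg])
        (fun c d hc hd x => by rw [add_smul, map_add, map_add, hc, hd, add_smul])
        (fun c d hc hd x => by rw [mul_smul, hc, hd, map_mul, mul_smul])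
    have h2V : ∀ x : ι → F, x + x = 0 → x = 0 := fun x hx =>
      (smul_eq_zero.1 (show (2 : F) • x = 0 by rw [two_smul]; exact hx)).resolve_left E.two
    have hbig : Nat.card K ^ 4 < Nat.card (ι → F) := by
      rw [Module.natCard_eq_pow_finrank (K := F) (V := K), hfrK, Nat.card_fun,
        Nat.card_eq_fintype_card (α := ι), E.dim, ← pow_mul]
      refine Nat.pow_lt_pow_right ?_ (by omega)
      rw [Nat.card_eq_fintype_card]
      exact Fintype.one_lt_card
    obtain ⟨hτ, l, hl⟩ := comp.scalar h2K h2V hdim hbig T hinj τ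
      (fun c x y hxy => (hsemi c x).trans (congrArg (τ c • ·) hxy)) hcomm
    have hσ : σ = 1 := RingEquiv.ext fun a => (algebraMap F K).injective ((hτa a).symm.trans (hτ _))
    refine ⟨hσ, ?_⟩
    obtain ⟨α, β, hαβ⟩ : ∃ α β : F, l = algebraMap F K α + algebraMap F K β * θ :=
      hgen (fun c => ∃ α β : F, c = algebraMap F K α + algebraMap F K β * θ)
        (fun a => ⟨a, 0, by simp⟩) ⟨0, 1, by simp⟩
        (by rintro c d ⟨a, b, rfl⟩ ⟨a', b', rfl⟩; exact ⟨a + a', b + b', by rw [map_add, map_add]; ring⟩)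
        (by
          rintro c d ⟨a, b, rfl⟩ ⟨a', b', rfl⟩
          refine ⟨a * a' + b * b' * μ, a * b' + a' * b, ?_⟩
          rw [map_add, map_add, map_mul, map_mul, map_mul, map_mul, map_mul, ← hθ2]
          ring) l
    have hT : ∀ x, T x = α • x + β • sv g x := fun x => by
      rw [show T x = l • x from hl x, hαβ, add_smul, mul_smul, hsmulF, hsmulF, hsmulθ]
    have hval : ∀ x, 2 * (α * β) * polar Q x (sv g x) + 2 * (α * α + β * β * μ - ν) * Q x = 0 := fun x => by
      have h1 := hform x
      rw [hT, QuadraticMap.map_add (⇑Q), QuadraticMap.map_smul, QuadraticMap.map_smul, polar_smul_left,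
        polar_smul_right, Q_sv, hσ, ← hμdef, smul_eq_mul, smul_eq_mul, smul_eq_mul, smul_eq_mul] at h1
      simp only [RingAut.one_apply] at h1
      linear_combination 2 * h1 + (0 : F) * Q x
    have hαβ0 : α * β = 0 := by
      obtain ⟨v, hv, hvg⟩ := E.exists_orth_image hg2 hns
      have hν : α * α + β * β * μ - ν = 0 := by
        have := hval v
        rw [hvg, mul_zero, zero_add] at this
        exact (mul_eq_zero.1 ((mul_eq_zero.1 this).resolve_right hv)).resolve_left E.two
      by_contra hne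
      have hzero : ∀ x, polar Q x (sv g x) = 0 := fun x => by
        have := hval x
        rw [hν, mul_zero, zero_mul, add_zero] at this
        exact (mul_eq_zero.1 this).resolve_left (mul_ne_zero E.two hne)
      refine hv ?_
      have hgv : sv g v = 0 := E.nondeg.1 _ fun x => by
        show polar Q (sv g v) x = 0
        have h1 := hzero (v + x)
        rw [sv_add, polar_add_left, polar_add_right, polar_add_right, hzero v, hzero x,
          polar_comm (⇑Q) x (sv g v), ← E.self_adjoint hg2 v x] at h1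
        exact (mul_eq_zero.1 (show (2 : F) * polar Q (sv g v) x = 0 by linear_combination h1)).resolve_left E.two
      rw [← sv_inv_sv g v, hgv]
      simp [sv]
    rcases mul_eq_zero.1 hαβ0 with h | h
    · exact Or.inr ⟨β, fun x => by rw [hT, h, zero_smul, zero_add]⟩
    · exact Or.inl ⟨α, fun x => by rw [hT, h, zero_smul, add_zero]⟩

theorem graphData (E : EvenForm Q n) (hn : 4 ≤ n) {g : Sim Q} (hg : E.proper g = -1)
    (hg2 : g * g = scal (mult g)) : GraphData g := by
  by_cases h : IsSquare (mult g : F)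
  · obtain ⟨s, hs⟩ := h
    exact graphData_square E hn hg hg2 hs.symm
  · exact graphData_nonsquare E hn hg hg2 h

end Cfsg.Agent.Lib.POmegaBalance
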